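import Groth.Agent.HopfFF.Sub
import Groth.Agent.ComodBasic.Unipotent
import Mathlib.RingTheory.Bialgebra.Convolution
import Mathlib.RingTheory.HopfAlgebra.Convolution
import Mathlib.RingTheory.HopfAlgebra.Quotient

/-!
# Universe polymorphic helpers for unipotent groups
-/

namespace Groth.Agent.HopfFF

open TensorProduct WithConv CoalgebraStruct HopfRep Groth.Agent.ComodBasic

universe u v w

variable {k : Type u} [Field k]

/-- invariants of the kernel of `Spec A → Spec B` are `B` -/
theorem mem_of_invariant {A : Type v} [CommRing A] [HopfAlgebra k A] {B : Subalgebra k A}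
    (h1 : ∀ b ∈ B, comul (R := k) b ∈
      LinearMap.range (TensorProduct.map B.val.toLinearMap B.val.toLinearMap))
    (h2 : ∀ b ∈ B, HopfAlgebraStruct.antipode (R := k) (A := A) b ∈ B)
    {J : Ideal A} (hJ : J ≤ Ideal.span {a | a ∈ B ∧ counit (R := k) a = 0}) {x : A}
    (hx : Algebra.TensorProduct.map (AlgHom.id k A) (Ideal.Quotient.mkₐ k J) (comul (R := k) x) =
      x ⊗ₜ[k] (1 : A ⧸ J)) : x ∈ B := by
  haveI := faithfullyFlat B h1 h2
  let T := A ⊗[B] A
  let il : A →ₐ[k] T := (Algebra.TensorProduct.includeLeft : A →ₐ[k] T)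
  let ir : A →ₐ[k] T := (Algebra.TensorProduct.includeRight : A →ₐ[B] T).restrictScalars k
  let ilS : WithConv (A →ₐ[k] T) := toConv (il.comp (HopfAlgebra.antipodeAlgHom k A))
  let Ω : A →ₐ[k] T := (ilS * toConv ir).ofConv
  have hmul : toConv il * ilS = 1 := by
    refine WithConv.ext ?_
    have h := AlgHom.comp_convMul_distrib il
      (toConv (AlgHom.id k A)) (toConv (HopfAlgebra.antipodeAlgHom k A))
    rw [show toConv (AlgHom.id k A) * toConv (HopfAlgebra.antipodeAlgHom k A) = 1 from
      mul_eq_one_symm (AlgHom.antipode_id_cancel (R := k) (A := A))] at h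
    refine Eq.trans ?_ (h.symm.trans ?_)
    · rfl
    · ext a; simp [AlgHom.convOne_def]
  have hmul' : ilS * toConv il = 1 := by
    refine WithConv.ext ?_
    have h := AlgHom.comp_convMul_distrib il
      (toConv (HopfAlgebra.antipodeAlgHom k A)) (toConv (AlgHom.id k A))
    rw [AlgHom.antipode_id_cancel] at h
    refine Eq.trans ?_ (h.symm.trans ?_)
    · rfl
    · ext a; simp [AlgHom.convOne_def]
  have hΩ : ∀ a ∈ J, Ω a = 0 := by
    suffices h : Ideal.span {a | a ∈ B ∧ counit (R := k) a = 0} ≤ RingHom.ker Ω from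
      fun a ha => h (hJ ha)
    refine Ideal.span_le.2 ?_
    rintro b ⟨hb, hε⟩
    obtain ⟨z, hz⟩ := h1 b hb
    show Ω b = 0
    have hc : ∀ c : A, c ∈ B → ir c = il c := by
      intro c hc
      show (1 : A) ⊗ₜ[B] c = c ⊗ₜ[B] (1 : A)
      have e : c = (⟨c, hc⟩ : B) • (1 : A) := by rw [Subalgebra.smul_def, smul_eq_mul, mul_one]
      conv_lhs => rw [e, ← TensorProduct.smul_tmul, ← e]
    have h3 : Ω b = (ilS * toConv il).ofConv b := by
      show (ilS * toConv ir).ofConv b = (ilS * toConv il).ofConv b
      rw [AlgHom.convMul_apply, AlgHom.convMul_apply, ← hz]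
      clear hz
      induction z using TensorProduct.induction_on with
      | zero => simp
      | add p q hp hq => simp only [map_add, hp, hq]
      | tmul p q => simp [hc (q : A) q.2]
    rw [h3, hmul', AlgHom.convOne_apply, hε, map_zero]
  refine mem_of_tmul_eq (B := B) ?_
  have key : ir x = (toConv il * toConv Ω).ofConv x := by
    show ir x = (toConv il * (ilS * toConv ir)).ofConv x
    have hc : ∀ {M : Type v} [Monoid M] (a b c : M), a * b = 1 → a * (b * c) = c := fun a b c hab => by
      rw [← mul_assoc, hab, one_mul]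
    exact congrArg (fun t => t.ofConv x) (hc (M := WithConv (A →ₐ[k] T)) _ _ (toConv ir) hmul).symm
  have h4 : (toConv il * toConv Ω).ofConv x =
      Algebra.TensorProduct.lift il (Ideal.Quotient.liftₐ J Ω hΩ) (fun _ _ => .all _ _)
        (Algebra.TensorProduct.map (AlgHom.id k A) (Ideal.Quotient.mkₐ k J) (comul (R := k) x)) := by
    rw [AlgHom.convMul_apply]
    generalize comul (R := k) x = z
    induction z using TensorProduct.induction_on with
    | zero => simp
    | add p q hp hq => simp only [map_add, hp, hq]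
    | tmul p q => simp
  rw [h4, hx, Algebra.TensorProduct.lift_tmul, map_one, mul_one] at key
  exact key.symm

section Fixed

variable {A : Type v} [CommRing A] [Bialgebra k A]
variable {V : Type w} [AddCommGroup V] [Module k V] [Comod k A V]

/-- a vector with coefficients in the socle series gives a fixed vector -/
theorem exists_fixed_of_coef {v : V} (hv : v ≠ 0)
    (h : ∀ ξ : V →ₗ[k] k, ∃ n, (coef ξ : V →ₗ[Cv k A] A) v ∈ socSeries k A A n) :
    fixedPts k A V ≠ ⊥ := by
  classical
  let P : ℕ → Prop := fun n => ∃ v : V, v ≠ 0 ∧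
    ∀ ξ : V →ₗ[k] k, (coef ξ : V →ₗ[Cv k A] A) v ∈ socSeries k A A n
  have hex : ∃ n, P n := by
    obtain ⟨N, hN, hN'⟩ := exists_finite_slice_mem (TensorProduct.comm k V A (Comod.coact (k := k) (A := A) v))
    obtain ⟨t, ht⟩ := Module.Finite.iff_fg.1 hN
    let S := (⨆ n, (socSeries k A A n).restrictScalars k)
    have hdir : Directed (· ≤ ·) fun n => (socSeries k A A n).restrictScalars k :=
      fun i j => ⟨max i j, fun x hx => socSeries_mono (le_max_left i j) hx,
        fun x hx => socSeries_mono (le_max_right i j) hx⟩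
    let R : Submodule k A := Submodule.span k (Set.range fun ξ : V →ₗ[k] k => (coef ξ : V →ₗ[Cv k A] A) v)
    have hR : R ≤ N := Submodule.span_le.2 (by
      rintro _ ⟨ξ, rfl⟩
      have e : (coef ξ : V →ₗ[Cv k A] A) v =
          slice ξ (TensorProduct.comm k V A (Comod.coact (k := k) (A := A) v)) := by
        rw [coef_apply]
        generalize Comod.coact (k := k) (A := A) v = y
        induction y using TensorProduct.induction_on with
        | zero => simp
        | add a b ha hb => simp [ha, hb]
        | tmul a b => simp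
      show (coef ξ : V →ₗ[Cv k A] A) v ∈ N
      rw [e]
      exact hN' ξ)
    haveI : Module.Finite k N := hN
    haveI : Module.Finite k R := Submodule.finiteDimensional_of_le hR
    have hRS : R ≤ S := Submodule.span_le.2 (by
      rintro _ ⟨ξ, rfl⟩
      obtain ⟨n, hn⟩ := h ξ
      exact Submodule.mem_iSup_of_mem n hn)
    obtain ⟨u, hu⟩ := Module.Finite.iff_fg.1 (inferInstance : Module.Finite k R)
    have hmem : ∀ x : u, ∃ n, (x : A) ∈ (socSeries k A A n).restrictScalars k := fun x =>
      (Submodule.mem_iSup_of_directed _ hdir).1 (hRS (hu ▸ Submodule.subset_span x.2))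
    choose f hf using hmem
    refine ⟨u.attach.sup f, v, hv, fun ξ => ?_⟩
    exact (Submodule.span_le.2 fun x hx => socSeries_mono (Finset.le_sup (f := f) (u.mem_attach ⟨x, hx⟩))
      (hf ⟨x, hx⟩) : Submodule.span k (↑u : Set A) ≤ (socSeries k A A (u.attach.sup f)).restrictScalars k)
      (hu.ge (Submodule.subset_span ⟨ξ, rfl⟩))
  obtain ⟨w, hw, hwn⟩ := Nat.find_spec hex
  obtain ⟨m, hm⟩ : ∃ m, Nat.find hex = m + 1 := by
    refine Nat.exists_eq_succ_of_ne_zero fun h0 => hw ?_
    rw [h0] at hwn
    refine (Module.forall_dual_apply_eq_zero_iff k w).1 fun ξ => ?_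
    rw [← counit_coef (C := A) ξ w, show (coef ξ : V →ₗ[Cv k A] A) w = 0 from (Submodule.mem_bot _).1 (hwn ξ),
      map_zero]
  rw [hm] at hwn
  intro hbot
  refine hw ((Submodule.eq_bot_iff _).1 hbot w (mem_fixedPts_iff.2 fun ψ => ?_))
  by_contra hne
  refine Nat.find_min hex (m := m) (by omega) ⟨ψ • w - ψ.ofConv 1 • w, sub_ne_zero.2 hne, fun ξ => ?_⟩
  rw [map_sub, map_smul, LinearMap.map_smul_of_tower]
  exact hwn ξ ψ

end Fixed

section Quotient

variable {A : Type v} [CommRing A] [Bialgebra k A] {C : Type w} [CommRing C] [Bialgebra k C]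
variable (π : A →ₐc[k] C)

/-- the socle series maps into the socle series -/
theorem map_mem_socSeries : ∀ (n : ℕ) (a : A), a ∈ socSeries k A A n → π a ∈ socSeries k C C n
  | 0, a, ha => by rw [(Submodule.mem_bot _).1 ha, map_zero]; exact zero_mem _
  | n + 1, a, ha => by
    intro φ
    have h := map_mem_socSeries n _ (ha (toConv (φ.ofConv ∘ₗ (π : A →ₐ[k] C).toLinearMap)))
    have e : π ((toConv (φ.ofConv ∘ₗ (π : A →ₐ[k] C).toLinearMap) : Cv k A) • a) = φ • π a := by
      rw [smul_def, smul_def, act_apply, act_apply,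
        show Comod.coact (k := k) (A := C) (π a) = comul (R := k) (π a) from rfl,
        show Comod.coact (k := k) (A := A) a = comul (R := k) a from rfl,
        ← CoalgHomClass.map_comp_comul_apply π]
      generalize comul (R := k) a = z
      induction z using TensorProduct.induction_on with
      | zero => simp
      | add x y hx hy => simp only [map_add, hx, hy]
      | tmul x y => simp
    rw [map_sub, e, map_smul] at h
    simpa using h

/-- the socle series exhausts a unipotent coalgebra, and conversely -/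
theorem isUnipotent_of_forall_mem (h : ∀ c : C, ∃ n, c ∈ socSeries k C C n) : IsUnipotent k C := by
  intro V _ _ _ _ hV
  obtain ⟨v, hv⟩ := exists_ne (0 : V)
  exact exists_fixed_of_coef hv fun ξ => h _

theorem isUnipotent_of_surjective (hU : IsUnipotent k A) (hπ : Function.Surjective π) : IsUnipotent k C :=
  isUnipotent_of_forall_mem fun c => by
    obtain ⟨a, rfl⟩ := hπ c
    obtain ⟨n, hn⟩ := exists_mem_socSeries (V := A) hU a
    exact ⟨n, map_mem_socSeries π n a hn⟩

end Quotient

section UnipSub

variable {A : Type v} [CommRing A] [HopfAlgebra k A]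

theorem mul_mem_range_rTensor' {P Q S : Submodule k A} (h : ∀ p ∈ P, ∀ q ∈ Q, p * q ∈ S)
    {z w : A ⊗[k] A} (hz : z ∈ LinearMap.range (P.subtype.rTensor A))
    (hw : w ∈ LinearMap.range (Q.subtype.rTensor A)) :
    z * w ∈ LinearMap.range (S.subtype.rTensor A) := by
  obtain ⟨z, rfl⟩ := hz
  obtain ⟨w, rfl⟩ := hw
  induction z using TensorProduct.induction_on with
  | zero => simp
  | add x y hx hy => rw [map_add, add_mul]; exact add_mem hx hy
  | tmul p a =>
    induction w using TensorProduct.induction_on with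
    | zero => simp
    | add x y hx hy => rw [map_add, mul_add]; exact add_mem hx hy
    | tmul q c =>
      exact ⟨⟨(p : A) * q, h p p.2 q q.2⟩ ⊗ₜ (a * c), by simp⟩

theorem socSeries_mul_mem' : ∀ (n i j : ℕ), i + j ≤ n → ∀ a ∈ socSeries k A A i,
    ∀ b ∈ socSeries k A A j, a * b ∈ socSeries k A A n
  | n, 0, j, _, a, ha, b, _ => by
    rw [(Submodule.mem_bot _).1 ha, zero_mul]; exact zero_mem _
  | n, i + 1, 0, _, a, _, b, hb => by
    rw [(Submodule.mem_bot _).1 hb, mul_zero]; exact zero_mem _
  | 0, i + 1, j + 1, h, _, _, _, _ => by omega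
  | n + 1, i + 1, j + 1, h, a, ha, b, hb => by
    show a * b ∈ fixStep (socSeries k A A n)
    rw [← mem_fixStep_iff_coact]
    let R : ℕ → Submodule k (A ⊗[k] A) := fun m =>
      LinearMap.range (((socSeries k A A m).restrictScalars k).subtype.rTensor A)
    have hsub : ∀ (m : ℕ) (x : A), x ∈ socSeries k A A m → comul (R := k) x ∈ R m := fun m x hx =>
      (mem_range_rTensor_iff _ _).2 fun φ => (socSeries k A A m).smul_mem (toConv φ) hx
    have h1 := mul_mem_range_rTensor' (S := (socSeries k A A n).restrictScalars k)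
      (fun p hp q hq => socSeries_mul_mem' n i (j + 1) (by omega) p hp q hq)
      ((mem_fixStep_iff_coact (socSeries k A A i) a).2 ha) (hsub (j + 1) b hb)
    have h2 := mul_mem_range_rTensor' (S := (socSeries k A A n).restrictScalars k)
      (fun p hp q hq => socSeries_mul_mem' n (i + 1) j (by omega) p hp q hq)
      (show a ⊗ₜ[k] (1 : A) ∈ R (i + 1) from ⟨⟨a, ha⟩ ⊗ₜ 1, by simp⟩)
      ((mem_fixStep_iff_coact (socSeries k A A j) b).2 hb)
    convert add_mem h1 h2 using 1
    show comul (R := k) (a * b) - (a * b) ⊗ₜ[k] (1 : A) =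
      (comul (R := k) a - a ⊗ₜ 1) * comul (R := k) b + a ⊗ₜ 1 * (comul (R := k) b - b ⊗ₜ 1)
    rw [Bialgebra.comul_mul, sub_mul, mul_sub, Algebra.TensorProduct.tmul_mul_tmul, one_mul]
    abel

variable (k A) in
/-- the unipotent part: the union of the socle series of the regular comodule -/
noncomputable def unipSub' : Subalgebra k A where
  carrier := {a | ∃ n, a ∈ socSeries k A A n}
  mul_mem' := fun ⟨i, ha⟩ ⟨j, hb⟩ => ⟨i + j, socSeries_mul_mem' _ i j le_rfl _ ha _ hb⟩
  add_mem' := fun ⟨i, ha⟩ ⟨j, hb⟩ => ⟨max i j, add_mem (socSeries_mono (le_max_left i j) ha)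
    (socSeries_mono (le_max_right i j) hb)⟩
  algebraMap_mem' r := ⟨1, show algebraMap k A r ∈ (socSeries k A A 1).restrictScalars k by
    rw [socSeries_one_regular, Algebra.algebraMap_eq_smul_one]
    exact Submodule.smul_mem _ r (Submodule.mem_span_singleton_self _)⟩

end UnipSub

end Groth.Agent.HopfFF
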