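import Groth.Agent.HopfFF.SmoothCrit
import Mathlib.RingTheory.HopfAlgebra.Quotient
import Mathlib.RingTheory.Jacobson.Ring
import Mathlib.RingTheory.KrullDimension.Polynomial

/-!
# Smoothness of reduced groups, the reduced subgroup
-/

set_option autoImplicit false

namespace Groth.Agent.HopfFF.SmoothCrit

open TensorProduct CoalgebraStruct

universe u v

section Scheme

open CategoryTheory MonoidalCategory CartesianMonoidalCategory MonObj GrpObj AlgebraicGeometry

/-- reduced groups over algebraically closed fields are smooth -/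
theorem formallySmooth_of_isReduced_aux {k A : Type u} [Field k] [IsAlgClosed k] [CommRing A]
    [HopfAlgebra k A] [Algebra.FiniteType k A] [_root_.IsReduced A] : Algebra.FormallySmooth k A := by
  let G : Over (Spec (CommRingCat.of k)) := (Spec (CommRingCat.of A)).asOver (Spec (CommRingCat.of k))
  haveI : LocallyOfFiniteType G.hom :=
    inferInstanceAs (LocallyOfFiniteType (Spec (CommRingCat.of A) ↘ Spec (CommRingCat.of k)))
  haveI : AlgebraicGeometry.IsReduced G.left := inferInstanceAs (AlgebraicGeometry.IsReduced (Spec (CommRingCat.of A)))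
  haveI : AlgebraicGeometry.IsReduced ((⊤ : G.left.Opens) : Scheme.{u}) :=
    isReduced_of_isOpenImmersion (⊤ : G.left.Opens).ι
  haveI : Nontrivial A := (Bialgebra.counitAlgHom k A).toRingHom.domain_nontrivial
  have hne : ((⊤ : G.left.Opens) : Set G.left).Nonempty :=
    ⟨⟨RingHom.ker (Bialgebra.counitAlgHom k A), isPrime_counit⟩, trivial⟩
  have h := Groth.Agent.GrpSchField.smooth_of_smoothLocus_nonempty_algClosed G
    (Groth.Agent.GrpSchField.smoothLocus_nonempty_of_isReduced_open G ⊤ hne)
  change Smooth (Spec.map (CommRingCat.ofHom (algebraMap k A))) at h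
  rw [HasRingHomProperty.Spec_iff (P := @Smooth)] at h
  exact (RingHom.smooth_algebraMap.1 h).formallySmooth

end Scheme

variable {k : Type u} {A : Type v} [Field k] [CommRing A] [HopfAlgebra k A] [Algebra.FiniteType k A]

theorem formallySmooth_of_isReduced [IsAlgClosed k] [IsReduced A] : Algebra.FormallySmooth k A := by
  haveI := Transport.small_of_finiteType.{u, v} k A
  let e : Shrink.{u} A ≃ₐ[k] A := Shrink.algEquiv k A
  letI := Transport.hopfAlgebra e
  haveI : Algebra.FiniteType k (Shrink.{u} A) := Algebra.FiniteType.equiv ‹_› e.symm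
  haveI : IsReduced (Shrink.{u} A) := isReduced_of_injective e e.injective
  haveI := formallySmooth_of_isReduced_aux (k := k) (A := Shrink.{u} A)
  exact Algebra.FormallySmooth.of_equiv e

omit [HopfAlgebra k A] in
theorem isNilpotent_of_forall_point [Algebra k A] [Algebra.FiniteType k A] [IsAlgClosed k] {a : A}
    (h : ∀ g : A →ₐ[k] k, g a = 0) : IsNilpotent a := by
  haveI : IsJacobsonRing A := isJacobsonRing_of_finiteType (A := k) (B := A)
  rw [← mem_nilradical, nilradical, Ideal.radical_eq_jacobson, Ideal.jacobson, Submodule.mem_sInf]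
  rintro m ⟨-, hm⟩
  letI : Field (A ⧸ m) := Ideal.Quotient.field m
  haveI : Algebra.FiniteType k (A ⧸ m) :=
    (inferInstance : Algebra.FiniteType k A).of_surjective (Ideal.Quotient.mkₐ k m)
      Ideal.Quotient.mk_surjective
  haveI : Module.Finite k (A ⧸ m) := finite_of_finite_type_of_isJacobsonRing k (A ⧸ m)
  haveI : Algebra.IsIntegral k (A ⧸ m) := Algebra.IsIntegral.of_finite k _
  let e := AlgEquiv.ofBijective (Algebra.ofId k (A ⧸ m))
    (IsAlgClosed.algebraMap_bijective_of_isIntegral (k := k))
  refine Ideal.Quotient.eq_zero_iff_mem.1 (e.symm.injective ?_)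
  rw [map_zero]
  exact h (e.symm.toAlgHom.comp (Ideal.Quotient.mkₐ k m))

/-- the reduced subscheme is a subgroup over an algebraically closed field -/
theorem isHopfIdeal_nilradical [IsAlgClosed k] : (nilradical A).IsHopfIdeal k := by
  let q := Ideal.Quotient.mkₐ k (nilradical A)
  haveI : Algebra.FiniteType k (A ⧸ nilradical A) :=
    (inferInstance : Algebra.FiniteType k A).of_surjective q Ideal.Quotient.mk_surjective
  have hzero : ∀ y : A ⧸ nilradical A, (∀ g : (A ⧸ nilradical A) →ₐ[k] k, g y = 0) → y = 0 := by
    intro y hy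
    obtain ⟨y, rfl⟩ := Ideal.Quotient.mk_surjective y
    obtain ⟨n, hn⟩ := isNilpotent_of_forall_point hy
    refine Ideal.Quotient.eq_zero_iff_mem.2 ?_
    have h' : y ^ n ∈ nilradical A := Ideal.Quotient.eq_zero_iff_mem.1 (by rw [map_pow]; exact hn)
    obtain ⟨r, hr⟩ := h'
    exact ⟨n * r, by rw [pow_mul]; exact hr⟩
  have hnil : ∀ {x : A}, x ∈ nilradical A → ∀ {R : Type v} [CommRing R] (f : A →+* R), IsNilpotent (f x) :=
    fun hx _ _ f => (mem_nilradical.1 hx).map f
  have hc : ((nilradical A).restrictScalars k).IsCoideal := by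
    refine ⟨fun x hx => ?_, fun x hx => ?_⟩
    · exact ((mem_nilradical.1 hx).map (Bialgebra.counitAlgHom k A)).eq_zero
    · show Algebra.TensorProduct.map q q (comul (R := k) x) = 0
      let P : A →ₐ[k] (A ⧸ nilradical A) ⊗[k] (A ⧸ nilradical A) :=
        (Algebra.TensorProduct.map q q).comp (Bialgebra.comulAlgHom k A)
      have hz : IsNilpotent (P x) := (mem_nilradical.1 hx).map P
      change P x = 0
      generalize P x = z at hz
      let b := Module.Free.chooseBasis k (A ⧸ nilradical A)
      refine (TensorProduct.equivFinsuppOfBasisRight b).injective ?_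
      rw [map_zero]
      ext i
      refine hzero _ fun g => ?_
      have key : ∀ w : (A ⧸ nilradical A) ⊗[k] (A ⧸ nilradical A),
          g (TensorProduct.equivFinsuppOfBasisRight b w i) =
            b.coord i (TensorProduct.lid k _ (g.toLinearMap.rTensor _ w)) := by
        intro w
        induction w using TensorProduct.induction_on with
        | zero => simp
        | add p r hp hr => simp only [map_add, Finsupp.add_apply, hp, hr]
        | tmul p r => simp [TensorProduct.equivFinsuppOfBasisRight_apply_tmul, mul_comm]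
      rw [key]
      let Ψ : (A ⧸ nilradical A) ⊗[k] (A ⧸ nilradical A) →ₐ[k] (A ⧸ nilradical A) :=
        (Algebra.TensorProduct.lid k _).toAlgHom.comp (Algebra.TensorProduct.map g (AlgHom.id k _))
      have hΨ : TensorProduct.lid k _ (g.toLinearMap.rTensor _ z) = Ψ z := by
        clear hz
        induction z using TensorProduct.induction_on with
        | zero => simp
        | add p r hp hr => simp only [map_add, hp, hr]
        | tmul p r => simp [Ψ]
      rw [hΨ, hzero (Ψ z) fun h => ((hz.map Ψ).map h).eq_zero, map_zero]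
  exact @Ideal.IsHopfIdeal.mk k A _ _ _ (nilradical A) hc fun x hx =>
    (mem_nilradical.2 ((mem_nilradical.1 hx).map (HopfAlgebra.antipodeAlgHom k A)) :)

/-- if all nilpotents are second order at the identity the group is smooth -/
theorem formallySmooth_of_nilradical_le [IsAlgClosed k]
    (h : nilradical A ≤ RingHom.ker (Bialgebra.counitAlgHom k A) ^ 2) : Algebra.FormallySmooth k A := by
  let N := nilradical A
  haveI : N.IsHopfIdeal k := isHopfIdeal_nilradical
  let q := Ideal.Quotient.mkₐ k N
  haveI : Algebra.FiniteType k (A ⧸ N) :=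
    (inferInstance : Algebra.FiniteType k A).of_surjective q Ideal.Quotient.mk_surjective
  haveI : IsReduced (A ⧸ N) := (Ideal.isRadical_iff_quotient_reduced N).1
    (Ideal.radical_isRadical _)
  obtain ⟨hle, heq⟩ := dim_le_and_eq_iff (k := k) (A := A)
  have hred := (dim_le_and_eq_iff (k := k) (A := A ⧸ N)).2.2 formallySmooth_of_isReduced
  refine heq.1 ?_
  have hdim : ringKrullDim (A ⧸ N) = ringKrullDim A := by
    rw [ringKrullDim_quotient, PrimeSpectrum.zeroLocus_nilradical]
    exact Order.krullDim_eq_of_orderIso OrderIso.Set.univ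
  let I := RingHom.ker (Bialgebra.counitAlgHom k A)
  let I' := RingHom.ker (Bialgebra.counitAlgHom k (A ⧸ N))
  have hIcomap : I = I'.comap q := by
    ext x
    exact Iff.rfl
  have hmap : I.map q = I' := by
    rw [hIcomap]
    exact Ideal.map_comap_of_surjective q Ideal.Quotient.mk_surjective I'
  let f : I.Cotangent →ₗ[k] I'.Cotangent := Ideal.mapCotangent I I' q hIcomap.le
  have hbij : Function.Bijective f := by
    constructor
    · rw [injective_iff_map_eq_zero]
      intro y hy
      obtain ⟨x, rfl⟩ := I.toCotangent_surjective y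
      rw [Ideal.mapCotangent_toCotangent, Ideal.toCotangent_eq_zero] at hy
      rw [Ideal.toCotangent_eq_zero]
      have h1 : (x : A) ∈ ((I ^ 2).map q).comap q := by
        rw [Ideal.map_pow, hmap]; exact hy
      rw [Ideal.comap_map_of_surjective q Ideal.Quotient.mk_surjective] at h1
      refine (sup_le le_rfl ?_ : I ^ 2 ⊔ _ ≤ I ^ 2) h1
      intro z hz
      exact h (Ideal.Quotient.eq_zero_iff_mem.1 hz)
    · intro y
      obtain ⟨⟨y, hy⟩, rfl⟩ := I'.toCotangent_surjective y
      obtain ⟨x, rfl⟩ := Ideal.Quotient.mk_surjective y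
      exact ⟨I.toCotangent ⟨x, hIcomap.ge hy⟩, Ideal.mapCotangent_toCotangent _ _ _ _ _⟩
  rw [← hdim, hred, (LinearEquiv.ofBijective f hbij).finrank_eq]

end Groth.Agent.HopfFF.SmoothCrit
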