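import Groth.Agent.HopfFF.Takeuchi
import Mathlib.RingTheory.RingHom.FaithfullyFlat
import Mathlib.RingTheory.Bialgebra.Hom
import Mathlib.RingTheory.HopfAlgebra.Quotient

/-!
# Faithful flatness over the image of a bialgebra map
-/

namespace Groth.Agent.HopfFF

open TensorProduct WithConv CoalgebraStruct

universe u v w

variable {k : Type u} {A : Type v} {B : Type w} [Field k] [CommRing A] [CommRing B]
  [HopfAlgebra k A] [HopfAlgebra k B] (f : A →ₐc[k] B)

/-- bialgebra maps commute with antipodes -/
theorem map_antipode (a : A) : f (HopfAlgebraStruct.antipode (R := k) (A := A) a) =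
    HopfAlgebraStruct.antipode (R := k) (A := B) (f a) := by
  let F : A →ₗ[k] B := (f : A →ₐ[k] B).toLinearMap
  have h1 : toConv (F ∘ₗ HopfAlgebraStruct.antipode (R := k) (A := A)) * toConv F = 1 := by
    refine WithConv.ext ?_
    calc (toConv (F ∘ₗ HopfAlgebraStruct.antipode (R := k) (A := A)) * toConv F :
            WithConv (A →ₗ[k] B)).ofConv
        = F ∘ₗ (toConv (HopfAlgebraStruct.antipode (R := k) (A := A)) * toConv LinearMap.id :
            WithConv (A →ₗ[k] A)).ofConv := by rw [LinearMap.algHom_comp_convMul_distrib]; rfl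
      _ = (1 : WithConv (A →ₗ[k] B)).ofConv := by
          rw [LinearMap.antipode_mul_id]; exact LinearMap.algHom_comp_convOne (f : A →ₐ[k] B)
  have h2 : toConv F * toConv (HopfAlgebraStruct.antipode (R := k) (A := B) ∘ₗ F) = 1 := by
    refine WithConv.ext ?_
    calc (toConv F * toConv (HopfAlgebraStruct.antipode (R := k) (A := B) ∘ₗ F) :
            WithConv (A →ₗ[k] B)).ofConv
        = (toConv LinearMap.id * toConv (HopfAlgebraStruct.antipode (R := k) (A := B)) :
            WithConv (B →ₗ[k] B)).ofConv ∘ₗ f.toCoalgHom.toLinearMap := by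
          rw [LinearMap.convMul_comp_coalgHom_distrib]; rfl
      _ = (1 : WithConv (A →ₗ[k] B)).ofConv := by
          rw [LinearMap.id_mul_antipode]; exact LinearMap.convOne_comp_coalgHom f.toCoalgHom
  have h := congrArg WithConv.ofConv (left_inv_eq_right_inv h1 h2)
  exact LinearMap.congr_fun h a

/-- the target is faithfully flat over the image -/
theorem faithfullyFlat_range : Module.FaithfullyFlat (f : A →ₐ[k] B).range B := by
  refine faithfullyFlat (f : A →ₐ[k] B).range ?_ ?_
  · rintro _ ⟨a, rfl⟩
    show comul (R := k) (f a) ∈ _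
    rw [← CoalgHomClass.map_comp_comul_apply f]
    generalize comul (R := k) a = z
    induction z using TensorProduct.induction_on with
    | zero => simp
    | add x y hx hy => rw [map_add]; exact add_mem hx hy
    | tmul x y =>
      exact ⟨(⟨f x, x, rfl⟩ : (f : A →ₐ[k] B).range) ⊗ₜ ⟨f y, y, rfl⟩, by simp⟩
  · rintro _ ⟨a, rfl⟩
    exact ⟨HopfAlgebraStruct.antipode (R := k) (A := A) a, map_antipode f a⟩

/-- the inclusion of the image is faithfully flat -/
theorem faithfullyFlat_range_val :
    ((f : A →ₐ[k] B).range.val : (f : A →ₐ[k] B).range →+* B).FaithfullyFlat :=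
  (RingHom.faithfullyFlat_algebraMap_iff (R := (f : A →ₐ[k] B).range) (S := B)).2 (faithfullyFlat_range f)

/-- an injective map of Hopf algebras is faithfully flat -/
theorem faithfullyFlat_of_injective (hf : Function.Injective f) : (f : A →+* B).FaithfullyFlat := by
  have e : (f : A →+* B) = ((f : A →ₐ[k] B).range.val : (f : A →ₐ[k] B).range →+* B).comp
      ((AlgEquiv.ofInjective (f : A →ₐ[k] B) hf).toRingEquiv.toRingHom) := RingHom.ext fun _ => rfl
  have h1 := RingHom.FaithfullyFlat.iff_flat_and_comap_surjective.1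
    (RingHom.FaithfullyFlat.of_bijective
      (f := (AlgEquiv.ofInjective (f : A →ₐ[k] B) hf).toRingEquiv.toRingHom)
      (AlgEquiv.ofInjective (f : A →ₐ[k] B) hf).bijective)
  have h2 := RingHom.FaithfullyFlat.iff_flat_and_comap_surjective.1 (faithfullyFlat_range_val f)
  rw [e, RingHom.FaithfullyFlat.iff_flat_and_comap_surjective]
  exact ⟨RingHom.Flat.comp h1.1 h2.1, by rw [PrimeSpectrum.comap_comp]; exact h1.2.comp h2.2⟩

end Groth.Agent.HopfFF
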