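import Groth.Agent.FittIdeal.Basic
import Groth.Agent.S6889
import Mathlib.LinearAlgebra.Matrix.Determinant.Basic
import Mathlib.RingTheory.Flat.Basic
import Mathlib.Algebra.Module.Projective

/-!
# Constant Fitting ideals force projectivity
-/

namespace Groth.Agent.HopfFF

universe u

variable {R : Type u} [CommRing R] {M : Type u} [AddCommGroup M] [Module R M]

/-- `det` of the bordered matrix, as a function of the last column. -/
theorem projective_of_fitting {n : ℕ} (x : Fin n → M) (hx : Submodule.span R (Set.range x) = ⊤) (r : ℕ)
    (hr : Fitt.ideal R M r = ⊤) (hlow : ∀ s, s < r → Fitt.ideal R M s = ⊥) :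
    Module.Projective R M := by
  classical
  let π : (Fin n → R) →ₗ[R] M := Fintype.linearCombination R x
  have hπ : Function.Surjective π := by
    rw [← LinearMap.range_eq_top, Fintype.range_linearCombination, hx]
  suffices key : ∀ d ∈ Fitt.ideal R M r, ∃ h : (Fin n → R) →ₗ[R] (Fin n → R),
      (∀ v, π (h v) = d • π v) ∧ ∀ v, π v = 0 → h v = 0 by
    obtain ⟨h, h1, h2⟩ := key 1 (hr ▸ Submodule.mem_top)
    let s : M →ₗ[R] (Fin n → R) :=
      (LinearMap.ker π).liftQ h (fun v hv => h2 v hv) ∘ₗ (π.quotKerEquivOfSurjective hπ).symm.toLinearMap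
    refine Module.Projective.of_split s π (LinearMap.ext fun m => ?_)
    obtain ⟨v, rfl⟩ := hπ m
    have e : (π.quotKerEquivOfSurjective hπ).symm (π v) = Submodule.Quotient.mk v := by
      rw [LinearEquiv.symm_apply_eq]; rfl
    simp only [s, LinearMap.comp_apply, LinearEquiv.coe_coe, e, Submodule.liftQ_apply, h1, one_smul,
      LinearMap.id_apply]
  intro d hd
  rw [Groth.Agent.S6889.result x hx r] at hd
  induction hd using Submodule.span_induction with
  | zero => exact ⟨0, fun v => by simp, fun v _ => rfl⟩
  | add a b _ _ ha hb =>
    obtain ⟨f, f1, f2⟩ := ha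
    obtain ⟨g, g1, g2⟩ := hb
    exact ⟨f + g, fun v => by simp [f1, g1, add_smul], fun v hv => by simp [f2 v hv, g2 v hv]⟩
  | smul c a _ ha =>
    obtain ⟨f, f1, f2⟩ := ha
    exact ⟨c • f, fun v => by simp [f1, smul_smul], fun v hv => by simp [f2 v hv]⟩
  | mem d hd =>
    obtain ⟨z, e, hz, rfl⟩ := hd
    -- the bordered matrix
    let N : Fin n → (Fin n → R) → Matrix (Fin (n - r + 1)) (Fin (n - r + 1)) R := fun c v =>
      Matrix.of fun a b =>
        (Fin.snoc z v : Fin (n - r + 1) → Fin n → R) b ((Fin.snoc e c : Fin (n - r + 1) → Fin n) a)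
    have hupd : ∀ c v, N c v = (N c 0).updateCol (Fin.last _)
        (fun a => v ((Fin.snoc e c : Fin (n - r + 1) → Fin n) a)) := by
      intro c v
      ext a b
      rw [Matrix.updateCol_apply]
      by_cases hb : b = Fin.last (n - r)
      · rw [if_pos hb]; simp [N, hb]
      · rw [if_neg hb]
        obtain ⟨j, rfl⟩ := Fin.exists_castSucc_eq.2 hb
        simp [N]
    let h : (Fin n → R) →ₗ[R] (Fin n → R) :=
      { toFun := fun v c => (N c v).det
        map_add' := fun v w => by
          ext c
          simp only [Pi.add_apply]
          rw [hupd c (v + w), hupd c v, hupd c w, ← Matrix.det_updateCol_add]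
          rfl
        map_smul' := fun t v => by
          ext c
          simp only [Pi.smul_apply, RingHom.id_apply, smul_eq_mul]
          rw [hupd c (t • v), hupd c v, ← Matrix.det_updateCol_smul]
          rfl }
    refine ⟨h, fun v => ?_, fun v hv => ?_⟩
    · show ∑ c, (N c v).det • x c = _
      have hexp : ∀ c, (N c v).det = ∑ b : Fin (n - r + 1),
          ((-1 : R) ^ ((n - r) + (b : ℕ)) * ((N c v).submatrix Fin.castSucc b.succAbove).det) *
            ((Fin.snoc z v : Fin (n - r + 1) → Fin n → R) b c) := by
        intro c
        rw [Matrix.det_succ_row (N c v) (Fin.last _)]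
        refine Finset.sum_congr rfl fun b _ => ?_
        rw [Fin.succAbove_last, show (N c v) (Fin.last _) b =
          (Fin.snoc z v : Fin (n - r + 1) → Fin n → R) b c by simp [N]]
        simp only [Fin.val_last]
        ring
      have hminor : ∀ c (b : Fin (n - r + 1)), (N c v).submatrix Fin.castSucc b.succAbove =
          Matrix.of fun a j => (Fin.snoc z v : Fin (n - r + 1) → Fin n → R) (b.succAbove j) (e a) := by
        intro c b
        ext a j
        simp [N]
      simp only [hexp, hminor, Finset.sum_smul]
      rw [Finset.sum_comm]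
      simp only [← smul_smul, ← Finset.smul_sum]
      rw [Finset.sum_eq_single (Fin.last _)]
      · simp only [Fin.snoc_last, Fin.succAbove_last, Fin.snoc_castSucc]
        rw [show ((-1 : R) ^ ((n - r) + ((Fin.last (n - r) : Fin (n - r + 1)) : ℕ))) = 1 by
          simp [← two_mul, pow_mul], one_smul]
        congr 1
      · intro b _ hb
        obtain ⟨j, rfl⟩ := Fin.exists_castSucc_eq.2 hb
        simp [hz j]
      · simp
    · funext c
      show (N c v).det = 0
      by_cases he : Function.Injective (Fin.snoc e c : Fin (n - r + 1) → Fin n)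
      · rcases Nat.lt_or_ge n r with hrn | hrn
        · have h0 : (⊤ : Ideal R) = ⊥ := by
            rw [← hlow n hrn, Groth.Agent.FittIdeal.ideal_eq x hx, Groth.Agent.FittIdeal.dIdeal_eq_top x le_rfl]
          have : (1 : R) = 0 := by simpa using h0.le (Submodule.mem_top (x := (1 : R)))
          rw [← one_mul (N c v).det, this, zero_mul]
        have hn : n - r + 1 ≤ n := by
          simpa using Fintype.card_le_of_injective _ he
        have hr0 : 0 < r := by omega
        have h0 := hlow (r - 1) (by omega)
        rw [Groth.Agent.S6889.result x hx (r - 1), Submodule.span_eq_bot] at h0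
        have hn' : n - (r - 1) = n - r + 1 := by omega
        refine h0 _ ⟨fun i => (Fin.snoc z v : Fin (n - r + 1) → Fin n → R) (Fin.cast hn' i),
          fun i => (Fin.snoc e c : Fin (n - r + 1) → Fin n) (Fin.cast hn' i), fun i => ?_, ?_⟩
        · show ∑ l, (Fin.snoc z v : Fin (n - r + 1) → Fin n → R) (Fin.cast hn' i) l • x l = 0
          generalize Fin.cast hn' i = q
          induction q using Fin.lastCases with
          | last => simpa [π, Fintype.linearCombination_apply] using hv
          | cast j => simpa using hz j
        · rw [← Matrix.det_reindex_self (finCongr hn'.symm) (N c v)]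
          congr 1
      · rw [Function.Injective] at he
        push Not at he
        obtain ⟨a, b, hab, hne⟩ := he
        exact Matrix.det_zero_of_row_eq hne (funext fun j => by simp [N, hab])

end Groth.Agent.HopfFF
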