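import Groth.Agent.HopfFF.Sub
import Groth.Agent.CommGrpDecomp.SubHopf
import Groth.Prelude.Def_SGA3
import Mathlib.RingTheory.HopfAlgebra.Quotient
import Mathlib.RingTheory.HopfAlgebra.Convolution
import Mathlib.RingTheory.Bialgebra.Convolution

/-!
# Invariant functions of a normal subgroup form a Hopf subalgebra
-/

namespace Groth.Agent.HopfFF

open TensorProduct WithConv CoalgebraStruct Groth.Agent.ComodBasic

universe u

variable {k : Type u} [Field k] {A : Type u} [CommRing A] [HopfAlgebra k A]

theorem conv3_eq {R : Type u} [CommRing R] [Algebra k R] (f g h : A →ₐ[k] R) :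
    Dyn.conv3 k A f g h = (toConv f * toConv g * toConv h).ofConv := by
  simp only [Dyn.conv3, AlgHom.convMul_def, ofConv_toConv]
  rw [← AlgHom.comp_assoc, ← AlgHom.comp_assoc, AlgHom.comp_assoc _ (Algebra.TensorProduct.map _ h),
    ← Algebra.TensorProduct.map_comp, AlgHom.comp_id]
  rfl

/-- the inverse of a point -/
noncomputable def pinv {R : Type u} [CommRing R] [Algebra k R] (g : WithConv (A →ₐ[k] R)) :
    WithConv (A →ₐ[k] R) := toConv (g.ofConv.comp (HopfAlgebra.antipodeAlgHom k A))

theorem pinv_mul {R : Type u} [CommRing R] [Algebra k R] (g : WithConv (A →ₐ[k] R)) :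
    pinv g * g = 1 := by
  refine WithConv.ext ?_
  have h := AlgHom.comp_convMul_distrib g.ofConv
    (toConv (HopfAlgebra.antipodeAlgHom k A)) (toConv (AlgHom.id k A))
  rw [AlgHom.antipode_id_cancel] at h
  refine Eq.trans ?_ (h.symm.trans ?_)
  · rfl
  · ext a; simp [AlgHom.convOne_def]

theorem mul_pinv {R : Type u} [CommRing R] [Algebra k R] (g : WithConv (A →ₐ[k] R)) :
    g * pinv g = 1 := by
  refine WithConv.ext ?_
  have h := AlgHom.comp_convMul_distrib g.ofConv
    (toConv (AlgHom.id k A)) (toConv (HopfAlgebra.antipodeAlgHom k A))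
  rw [show toConv (AlgHom.id k A) * toConv (HopfAlgebra.antipodeAlgHom k A) = 1 from
    mul_eq_one_symm (AlgHom.antipode_id_cancel (R := k) (A := A))] at h
  refine Eq.trans ?_ (h.symm.trans ?_)
  · rfl
  · ext a; simp [AlgHom.convOne_def]

theorem pinv_pinv {R : Type u} [CommRing R] [Algebra k R] (g : WithConv (A →ₐ[k] R)) :
    pinv (pinv g) = g :=
  WithConv.ext (AlgHom.ext fun a => congrArg g.ofConv (ComodBasic.antipode_antipode a))

theorem convMul_apply_lift {R : Type u} [CommRing R] [Algebra k R] (f g : A →ₐ[k] R) (a : A) :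
    (toConv f * toConv g).ofConv a =
      Algebra.TensorProduct.lift f g (fun _ _ => .all _ _) (comul (R := k) a) := by
  rw [AlgHom.convMul_apply]

theorem cancel3 {M : Type*} [Monoid M] {g g' : M} (h : g * g' = 1) (n : M) :
    g * (g' * n * g) = n * g := by rw [← mul_assoc, ← mul_assoc, h, one_mul]

theorem cancel2 {M : Type*} [Monoid M] {g g' : M} (h : g * g' = 1) (n : M) :
    g * (g' * n) = n := by rw [← mul_assoc, h, one_mul]

variable (J : Ideal A)

/-- the coaction of the subgroup from the right -/
noncomputable def rcoact : A →ₐ[k] A ⊗[k] (A ⧸ J) :=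
  (Algebra.TensorProduct.map (AlgHom.id k A) (Ideal.Quotient.mkₐ k J)).comp (Bialgebra.comulAlgHom k A)

/-- the invariant functions -/
noncomputable def invSub : Subalgebra k A :=
  AlgHom.equalizer (rcoact J) (Algebra.TensorProduct.includeLeft : A →ₐ[k] A ⊗[k] (A ⧸ J))

theorem mem_invSub {x : A} : x ∈ invSub (k := k) J ↔ rcoact J x = x ⊗ₜ[k] (1 : A ⧸ J) := Iff.rfl

theorem mem_invSub_iff {x : A} : x ∈ invSub (k := k) J ↔
    comul (R := k) x - x ⊗ₜ[k] (1 : A) ∈
      LinearMap.range (LinearMap.lTensor A (J.restrictScalars k).subtype) := by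
  rw [mem_invSub, rcoact]
  have h : (Algebra.TensorProduct.map (AlgHom.id k A) (Ideal.Quotient.mkₐ k J))
      (comul (R := k) x) - x ⊗ₜ[k] (1 : A ⧸ J) =
      (Ideal.Quotient.mkₐ k J).toLinearMap.lTensor A (comul (R := k) x - x ⊗ₜ[k] (1 : A)) := by
    rw [map_sub, LinearMap.lTensor_tmul]
    simp only [AlgHom.toLinearMap_apply, map_one]
    congr 1
  rw [AlgHom.comp_apply, ← sub_eq_zero, Bialgebra.comulAlgHom_apply, h]
  have hex : Function.Exact (LinearMap.lTensor A (J.restrictScalars k).subtype)
      (LinearMap.lTensor A (Ideal.Quotient.mkₐ k J).toLinearMap) :=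
    lTensor_exact A (fun y => by simp [Ideal.Quotient.eq_zero_iff_mem]) Ideal.Quotient.mk_surjective
  exact hex _

theorem lslice_mem_invSub {x : A} (hx : x ∈ invSub (k := k) J) (ψ : A →ₗ[k] k) :
    lslice ψ (comul (R := k) x) ∈ invSub (k := k) J := by
  rw [mem_invSub] at hx ⊢
  have h1 : (comul (R := k) (lslice ψ (comul (R := k) x)) : A ⊗[k] A) =
      ((coef (C := A) ψ : A →ₗ[Cv k A] A).restrictScalars k).rTensor A (comul (R := k) x) :=
    LinearMap.congr_fun (isComodHom_restrict (coef (C := A) ψ : A →ₗ[Cv k A] A)) x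
  show Algebra.TensorProduct.map (AlgHom.id k A) (Ideal.Quotient.mkₐ k J)
    (comul (R := k) (lslice ψ (comul (R := k) x))) = _
  rw [h1]
  have h2 : ∀ z : A ⊗[k] A, Algebra.TensorProduct.map (AlgHom.id k A) (Ideal.Quotient.mkₐ k J)
      (((coef (C := A) ψ : A →ₗ[Cv k A] A).restrictScalars k).rTensor A z) =
      ((coef (C := A) ψ : A →ₗ[Cv k A] A).restrictScalars k).rTensor (A ⧸ J)
        (Algebra.TensorProduct.map (AlgHom.id k A) (Ideal.Quotient.mkₐ k J) z) := by
    intro z
    induction z using TensorProduct.induction_on with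
    | zero => simp
    | add p q hp hq => simp only [map_add, hp, hq]
    | tmul p q => simp
  rw [h2, show Algebra.TensorProduct.map (AlgHom.id k A) (Ideal.Quotient.mkₐ k J) (comul (R := k) x) =
    x ⊗ₜ[k] (1 : A ⧸ J) from hx, LinearMap.rTensor_tmul]
  rfl

variable [J.IsHopfIdeal k]

theorem antipode_mem_invSub (hJ : SGA3.IsNormalHopfIdeal k A J) {x : A}
    (hx : x ∈ invSub (k := k) J) :
    HopfAlgebraStruct.antipode (R := k) (A := A) x ∈ invSub (k := k) J := by
  rw [mem_invSub] at hx ⊢
  let π := Ideal.Quotient.mkₐ k J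
  let g : A →ₐ[k] (A ⧸ J) ⊗[k] A := Algebra.TensorProduct.includeRight
  let n : A →ₐ[k] (A ⧸ J) ⊗[k] A := Algebra.TensorProduct.includeLeft.comp π
  have hn : ∀ a ∈ J, n a = 0 := fun a ha => by
    simp [n, π, Ideal.Quotient.eq_zero_iff_mem.2 ha]
  let m : A →ₐ[k] (A ⧸ J) ⊗[k] A :=
    (pinv (toConv g) * toConv n * toConv g).ofConv
  have hm : ∀ a ∈ J, m a = 0 := fun a ha => by
    have h := hJ _ (g.comp (HopfAlgebra.antipodeAlgHom k A)) n hn a ha
    rw [conv3_eq] at h
    refine Eq.trans ?_ h
    show _ = (pinv (toConv g) * toConv n * pinv (pinv (toConv g))).ofConv a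
    rw [pinv_pinv]
  let m' := Ideal.Quotient.liftₐ J m hm
  -- the left invariance
  have hl : Algebra.TensorProduct.map π (AlgHom.id k A) (comul (R := k) x) = (1 : A ⧸ J) ⊗ₜ[k] x := by
    have h1 : (toConv n * toConv g).ofConv x =
        Algebra.TensorProduct.map π (AlgHom.id k A) (comul (R := k) x) := by
      rw [convMul_apply_lift]
      generalize comul (R := k) x = z
      induction z using TensorProduct.induction_on with
      | zero => simp
      | add p q hp hq => simp only [map_add, hp, hq]
      | tmul p q => simp [n, g]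
    rw [← h1, show toConv n * toConv g = toConv g * toConv m from
      (cancel3 (mul_pinv (toConv g)) (toConv n)).symm,
      convMul_apply_lift]
    have h2 : Algebra.TensorProduct.lift g m (fun _ _ => .all _ _) (comul (R := k) x) =
        Algebra.TensorProduct.lift g m' (fun _ _ => .all _ _) (rcoact J x) := by
      show _ = Algebra.TensorProduct.lift g m' (fun _ _ => .all _ _)
        (Algebra.TensorProduct.map (AlgHom.id k A) π (comul (R := k) x))
      generalize comul (R := k) x = z
      induction z using TensorProduct.induction_on with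
      | zero => simp
      | add p q hp hq => simp only [map_add, hp, hq]
      | tmul p q => simp [m', π]
    rw [h2, hx, Algebra.TensorProduct.lift_tmul, map_one, mul_one]
    rfl
  show Algebra.TensorProduct.map (AlgHom.id k A) π
    (comul (R := k) (HopfAlgebraStruct.antipode (R := k) (A := A) x)) = _
  rw [show comul (R := k) (HopfAlgebraStruct.antipode (R := k) (A := A) x) = _ from
    ComodBasic.comul_antipode x]
  have h3 := congrArg (fun t => TensorProduct.comm k (A ⧸ J) A (TensorProduct.map
    (HopfAlgebraStruct.antipode (R := k) (A := A ⧸ J))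
    (HopfAlgebraStruct.antipode (R := k) (A := A)) t)) hl
  simp only [TensorProduct.map_tmul, TensorProduct.comm_tmul] at h3
  rw [show HopfAlgebraStruct.antipode (R := k) (A := A ⧸ J) 1 = 1 from HopfAlgebra.antipode_one] at h3
  rw [← h3]
  generalize comul (R := k) x = z
  induction z using TensorProduct.induction_on with
  | zero => simp
  | add p q hp hq => simp only [map_add, hp, hq]
  | tmul p q => simp [π]

theorem isHopfSubalgebra_invSub (hJ : SGA3.IsNormalHopfIdeal k A J) :
    SGA3.IsHopfSubalgebra k A (invSub (k := k) J) := by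
  refine ⟨fun x hx => ?_, fun x hx => antipode_mem_invSub J hJ hx⟩
  refine (mem_range_map_iff (Subalgebra.toSubmodule (invSub (k := k) J))
    (Subalgebra.toSubmodule (invSub (k := k) J)) _).2 ⟨fun φ => ?_, fun ψ => lslice_mem_invSub J hx ψ⟩
  show slice φ (comul (R := k) x) ∈ invSub (k := k) J
  have hSx : ∀ ψ : A →ₗ[k] k, lslice ψ
      (comul (R := k) (HopfAlgebraStruct.antipode (R := k) (A := A) x)) ∈ invSub (k := k) J :=
    lslice_mem_invSub J (antipode_mem_invSub J hJ hx)
  have h := antipode_mem_invSub J hJ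
    (hSx (φ ∘ₗ HopfAlgebraStruct.antipode (R := k) (A := A)))
  rw [show comul (R := k) (HopfAlgebraStruct.antipode (R := k) (A := A) x) = _ from
    ComodBasic.comul_antipode x] at h
  convert h using 1
  generalize comul (R := k) x = z
  induction z using TensorProduct.induction_on with
  | zero => simp
  | add p q hp hq => simp only [map_add, hp, hq]
  | tmul p q => simp [ComodBasic.antipode_antipode, mul_comm]

/-- the invariants of the kernel of `Spec A → Spec B` are `B` -/
theorem mem_of_mem_invSub {B : Subalgebra k A} (hB : SGA3.IsHopfSubalgebra k A B)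
    (hJB : J ≤ SGA3.augIdealSpan k A B) {x : A} (hx : x ∈ invSub (k := k) J) : x ∈ B := by
  haveI := faithfullyFlat B hB.1 hB.2
  let T := A ⊗[B] A
  let il : A →ₐ[k] T := (Algebra.TensorProduct.includeLeft : A →ₐ[k] T)
  let ir : A →ₐ[k] T := (Algebra.TensorProduct.includeRight : A →ₐ[B] T).restrictScalars k
  let Ω : A →ₐ[k] T := (pinv (toConv il) * toConv ir).ofConv
  have hΩ : ∀ a ∈ J, Ω a = 0 := by
    suffices h : SGA3.augIdealSpan k A B ≤ RingHom.ker Ω from fun a ha => h (hJB ha)
    refine Ideal.span_le.2 ?_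
    rintro b ⟨hb, hε⟩
    obtain ⟨z, hz⟩ := hB.1 b hb
    show Ω b = 0
    have h1 : ∀ c : A, c ∈ B → ir c = il c := by
      intro c hc
      show (1 : A) ⊗ₜ[B] c = c ⊗ₜ[B] (1 : A)
      have e : c = (⟨c, hc⟩ : B) • (1 : A) := by rw [Subalgebra.smul_def, smul_eq_mul, mul_one]
      conv_lhs => rw [e, ← TensorProduct.smul_tmul, ← e]
    have h2 : Ω b = (pinv (toConv il) * toConv il).ofConv b := by
      show ((toConv (il.comp (HopfAlgebra.antipodeAlgHom k A))) * toConv ir).ofConv b =
        ((toConv (il.comp (HopfAlgebra.antipodeAlgHom k A))) * toConv il).ofConv b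
      rw [convMul_apply_lift, convMul_apply_lift, ← hz]
      clear hz
      induction z using TensorProduct.induction_on with
      | zero => simp
      | add p q hp hq => simp only [map_add, hp, hq]
      | tmul p q => simp [h1 (q : A) q.2]
    rw [h2, pinv_mul, AlgHom.convOne_apply, hε, map_zero]
  refine mem_of_tmul_eq (B := B) ?_
  have key : ir x = (toConv il * toConv Ω).ofConv x := by
    show ir x = (toConv il * (pinv (toConv il) * toConv ir)).ofConv x
    exact congrArg (fun t => t.ofConv x)
      (cancel2 (M := WithConv (A →ₐ[k] T)) (mul_pinv (toConv il)) (toConv ir)).symm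
  have h3 : (toConv il * toConv Ω).ofConv x =
      Algebra.TensorProduct.lift il (Ideal.Quotient.liftₐ J Ω hΩ) (fun _ _ => .all _ _)
        (rcoact J x) := by
    rw [convMul_apply_lift]
    show _ = Algebra.TensorProduct.lift il (Ideal.Quotient.liftₐ J Ω hΩ) (fun _ _ => .all _ _)
        (Algebra.TensorProduct.map (AlgHom.id k A) (Ideal.Quotient.mkₐ k J) (comul (R := k) x))
    generalize comul (R := k) x = z
    induction z using TensorProduct.induction_on with
    | zero => simp
    | add p q hp hq => simp only [map_add, hp, hq]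
    | tmul p q => simp
  rw [h3, (mem_invSub J).1 hx, Algebra.TensorProduct.lift_tmul, map_one, mul_one] at key
  exact key.symm

omit [J.IsHopfIdeal k] in
theorem augIdealSpan_le {B : Subalgebra k A} (hB : ∀ x ∈ B, x ∈ invSub (k := k) J) :
    SGA3.augIdealSpan k A B ≤ J := by
  refine Ideal.span_le.2 ?_
  rintro x ⟨hx, hε⟩
  let ev : A ⊗[k] (A ⧸ J) →ₐ[k] A ⧸ J := Algebra.TensorProduct.lift
    ((Algebra.ofId k (A ⧸ J)).comp (Bialgebra.counitAlgHom k A)) (AlgHom.id k _) fun _ _ => .all _ _
  have h1 : ∀ a : A, ev (rcoact J a) = Ideal.Quotient.mkₐ k J a := by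
    intro a
    have h := congrArg (fun t => Ideal.Quotient.mkₐ k J (TensorProduct.lid k A t))
      (Coalgebra.rTensor_counit_comul (R := k) a)
    simp only [lid_tmul, one_smul] at h
    refine Eq.trans ?_ h
    show ev (Algebra.TensorProduct.map (AlgHom.id k A) (Ideal.Quotient.mkₐ k J) (comul (R := k) a)) = _
    generalize comul (R := k) a = z
    induction z using TensorProduct.induction_on with
    | zero => simp
    | add p q hp hq => simp only [map_add, hp, hq]
    | tmul p q => simp [ev, Algebra.smul_def]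
  have h := h1 x
  rw [(mem_invSub J).1 (hB x hx)] at h
  refine Ideal.Quotient.eq_zero_iff_mem.1 (h.symm.trans ?_)
  simp [ev, hε]

theorem le_invSub {B : Subalgebra k A} (hB : SGA3.IsHopfSubalgebra k A B)
    (hJB : SGA3.augIdealSpan k A B ≤ J) {x : A} (hx : x ∈ B) : x ∈ invSub (k := k) J := by
  rw [mem_invSub]
  obtain ⟨z, hz⟩ := hB.1 x hx
  have hq : ∀ c ∈ B, Ideal.Quotient.mkₐ k J c = algebraMap k (A ⧸ J) (counit (R := k) c) := by
    intro c hc
    rw [← Ideal.Quotient.mk_algebraMap]
    exact Ideal.Quotient.eq.2 (hJB (Ideal.subset_span ⟨sub_mem hc (B.algebraMap_mem _), by simp⟩))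
  have h := congrArg (fun t => (TensorProduct.rid k A t) ⊗ₜ[k] (1 : A ⧸ J))
    (Coalgebra.lTensor_counit_comul (R := k) x)
  simp only [TensorProduct.rid_tmul, one_smul] at h
  show Algebra.TensorProduct.map (AlgHom.id k A) (Ideal.Quotient.mkₐ k J) (comul (R := k) x) = _
  refine Eq.trans ?_ h
  rw [← hz]
  clear hz h
  induction z using TensorProduct.induction_on with
  | zero => simp
  | add p q hp hq => simp only [map_add, add_tmul, hp, hq]
  | tmul p q =>
    simp only [TensorProduct.map_tmul, AlgHom.toLinearMap_apply, Algebra.TensorProduct.map_tmul,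
      AlgHom.id_apply, Subalgebra.coe_val, LinearMap.lTensor_tmul, TensorProduct.rid_tmul, hq q q.2]
    rw [Algebra.algebraMap_eq_smul_one, tmul_smul, ← smul_tmul']

end Groth.Agent.HopfFF
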