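import Groth.Agent.HopfFF.Unipotent
import Groth.Agent.ComodBasic.Coef
import Groth.Agent.ComodBasic.Integral
import Groth.Agent.ComodBasic.HochVanish
import Mathlib.RingTheory.Flat.FaithfullyFlat.Algebra

/-!
# Linear reductivity in extensions

For a normal subgroup `K` of `G` with quotient `Q = Spec B`, induction from `K` to `G` is exact
(faithfully flat descent), so an invariant integral of `G` restricts to one of `K`.
-/

namespace Groth.Agent.HopfFF.RedExt

open TensorProduct WithConv CoalgebraStruct HopfRep Groth.Agent.ComodBasic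

universe u

variable {k : Type u} [Field k] {A C : Type u} [CommRing A] [HopfAlgebra k A] [CommRing C] [HopfAlgebra k C]

/-- left integral to right integral -/
theorem right_of_left {H : Type u} [CommRing H] [HopfAlgebra k H] {α : H →ₗ[k] k} (hα : IsLeftInt α) (x : H) :
    lslice (α ∘ₗ HopfAlgebra.antipode k) (comul (R := k) x) = (α ∘ₗ HopfAlgebra.antipode k) x • (1 : H) := by
  have key : HopfAlgebra.antipode k (lslice (α ∘ₗ HopfAlgebra.antipode k) (comul (R := k) x)) =
      slice α (comul (R := k) (HopfAlgebra.antipode k x)) := by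
    rw [comul_antipode]
    generalize comul (R := k) x = y
    induction y using TensorProduct.induction_on with
    | zero => simp
    | add a b ha hb => simp [ha, hb]
    | tmul c d => simp [Algebra.TensorProduct.tmul_mul_tmul]
  have := congrArg (HopfAlgebra.antipode k) key
  rw [antipode_antipode, hα, map_smul, HopfAlgebra.antipode_one] at this
  exact this

variable (B : Subalgebra k A) (h1 : ∀ b ∈ B, comul (R := k) b ∈
      LinearMap.range (TensorProduct.map B.val.toLinearMap B.val.toLinearMap))
  (h2 : ∀ b ∈ B, HopfAlgebraStruct.antipode (R := k) (A := A) b ∈ B)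
  (ψ : A →ₐc[k] C) (hψ : Function.Surjective ψ)
  (hker : RingHom.ker (ψ : A →ₐ[k] C) = Ideal.span {a | a ∈ B ∧ counit (R := k) a = 0})

include hker in
theorem psi_eq_counit {b : A} (hb : b ∈ B) : ψ b = algebraMap k C (counit (R := k) b) := by
  have h : b - algebraMap k A (counit (R := k) b) ∈ RingHom.ker (ψ : A →ₐ[k] C) := by
    rw [hker]
    exact Ideal.subset_span ⟨sub_mem hb (B.algebraMap_mem _), by simp⟩
  rw [RingHom.mem_ker, map_sub, AlgHom.commutes, sub_eq_zero] at h
  exact h

/-- `a ↦ a₁ ⊗ ψ a₂` -/
noncomputable def lam : A →ₐ[k] A ⊗[k] C :=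
  (Algebra.TensorProduct.map (AlgHom.id k A) (ψ : A →ₐ[k] C)).comp (Bialgebra.comulAlgHom k A)

theorem lam_apply (a : A) :
    lam ψ a = Algebra.TensorProduct.map (AlgHom.id k A) (ψ : A →ₐ[k] C) (comul (R := k) a) := rfl

include h1 hker in
theorem lam_of_mem {b : A} (hb : b ∈ B) : lam ψ b = b ⊗ₜ[k] (1 : C) := by
  obtain ⟨z, hz⟩ := h1 b hb
  have h := congrArg (TensorProduct.rid k A) (Coalgebra.lTensor_counit_comul (R := k) b)
  rw [TensorProduct.rid_tmul, one_smul] at h
  rw [lam_apply, ← hz]
  conv_rhs => rw [← h, ← hz]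
  clear hz h
  induction z using TensorProduct.induction_on with
  | zero => simp
  | add x y hx hy => simp only [map_add, add_tmul, hx, hy]
  | tmul x y =>
    simp only [TensorProduct.map_tmul, AlgHom.toLinearMap_apply, Subalgebra.coe_val, Algebra.TensorProduct.map_tmul,
      AlgHom.coe_id, id_eq, LinearMap.lTensor_tmul, TensorProduct.rid_tmul]
    rw [show (ψ : A →ₐ[k] C) (y : A) = algebraMap k C (counit (R := k) (y : A)) from psi_eq_counit B ψ hker y.2,
      Algebra.algebraMap_eq_smul_one, tmul_smul, smul_tmul']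

include h1 h2 hψ hker in
/-- exactness of induction: a fixed covector lifts to a fixed vector -/
theorem exists_fixed_row {α : A →ₗ[k] k} (hα : IsLeftInt α) (hα1 : α 1 = 1)
    {ι : Type*} [Fintype ι] [DecidableEq ι] (Q : Matrix ι ι C)
    (hQ : ∀ i j, comul (R := k) (Q i j) = ∑ l, Q i l ⊗ₜ[k] Q l j)
    (c v : ι → k) (hc : ∀ j, ∑ i, c i • Q j i = c j • (1 : C)) (hv : ∑ i, v i * c i = 1) :
    ∃ x : ι → k, (∀ i, ∑ j, x j • Q j i = x i • (1 : C)) ∧ ∑ i, x i * c i = 1 := by
  classical
  haveI := faithfullyFlat B h1 h2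
  let T := A ⊗[B] A
  let il : A →ₐ[k] T := (Algebra.TensorProduct.includeLeft : A →ₐ[k] T)
  let ir : A →ₐ[k] T := (Algebra.TensorProduct.includeRight : A →ₐ[B] T).restrictScalars k
  let τ0 : A →ₐ[k] T := (toConv (ir.comp (HopfAlgebra.antipodeAlgHom k A)) * toConv il).ofConv
  have hτ0 : RingHom.ker (ψ : A →ₐ[k] C) ≤ RingHom.ker τ0 := by
    rw [hker, Ideal.span_le]
    rintro b ⟨hb, hε⟩
    obtain ⟨z, hz⟩ := h1 b hb
    have hc : ∀ c : A, c ∈ B → ir c = il c := by
      intro c hc
      show (1 : A) ⊗ₜ[B] c = c ⊗ₜ[B] (1 : A)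
      have e : c = (⟨c, hc⟩ : B) • (1 : A) := by rw [Subalgebra.smul_def, smul_eq_mul, mul_one]
      conv_lhs => rw [e, ← TensorProduct.smul_tmul, ← e]
    show τ0 b = 0
    have e : τ0 b = il (LinearMap.mul' k A ((HopfAlgebra.antipode k).rTensor A (comul (R := k) b))) := by
      rw [show τ0 b = _ from AlgHom.convMul_apply _ _ _, ← hz]
      clear hz
      induction z using TensorProduct.induction_on with
      | zero => simp
      | add p q hp hq => simp only [map_add, hp, hq]
      | tmul p q => simp [hc _ (h2 p p.2)]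
    rw [e, HopfAlgebra.mul_antipode_rTensor_comul_apply, hε, map_zero, map_zero]
  let eC := Ideal.quotientKerAlgEquivOfSurjective (f := (ψ : A →ₐ[k] C)) hψ
  let τ : C →ₐ[k] T :=
    (Ideal.Quotient.liftₐ (RingHom.ker (ψ : A →ₐ[k] C)) τ0 fun a ha => hτ0 ha).comp eC.symm.toAlgHom
  have hτ : ∀ a, τ (ψ a) = τ0 a := by
    intro a
    have h : eC (Ideal.Quotient.mk _ a) = ψ a := rfl
    simp only [τ, AlgHom.comp_apply, AlgEquiv.coe_toAlgHom]
    rw [← h, AlgEquiv.symm_apply_apply]
    rfl
  -- the B-linear maps
  let lamB : A →ₗ[B] A ⊗[k] C :=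
    { toFun := fun a => lam ψ a
      map_add' := map_add _
      map_smul' := fun b a => by
        rw [RingHom.id_apply, Subalgebra.smul_def, smul_eq_mul, map_mul, lam_of_mem B h1 ψ hker b.2]
        generalize lam ψ a = z
        induction z using TensorProduct.induction_on with
        | zero => simp
        | add p q hp hq => simp only [mul_add, smul_add, hp, hq]
        | tmul p q =>
          rw [Algebra.TensorProduct.tmul_mul_tmul, one_mul]
          rfl }
  let R : C → (A →ₗ[B] A ⊗[k] C) := fun q =>
    { toFun := fun a => a ⊗ₜ[k] q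
      map_add' := fun a a' => add_tmul a a' q
      map_smul' := fun b a => (smul_tmul' b a q).symm }
  let comp : ι → ((ι → A) →ₗ[B] A ⊗[k] C) := fun l =>
    lamB ∘ₗ LinearMap.proj l - ∑ j, R (Q j l) ∘ₗ LinearMap.proj j
  let Φ : (ι → A) →ₗ[B] (ι → A ⊗[k] C) := LinearMap.pi comp
  let F : (ι → A) →ₗ[B] A := ∑ i, c i • LinearMap.proj i
  let q : ι → C := fun i => ∑ j, v j • Q j i
  let Z : (ι → A) ⊗[B] A := ∑ i, (LinearMap.single B (fun _ : ι => A) i).rTensor A (τ (q i))
  let Ψ : C ⊗[k] C →ₗ[k] (A ⊗[k] C) ⊗[B] A := TensorProduct.lift (LinearMap.mk₂ k (fun x y => (R y).rTensor A (τ x))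
    (fun a b y => by simp only [map_add])
    (fun r a y => by simp only [map_smul, LinearMap.map_smul_of_tower])
    (fun x y y' => by
      generalize τ x = t
      induction t using TensorProduct.induction_on with
      | zero => simp
      | add p r hp hr => rw [map_add, map_add, map_add, hp, hr]; abel
      | tmul p r => simp [R, tmul_add, add_tmul])
    (fun r x y => by
      generalize τ x = t
      induction t using TensorProduct.induction_on with
      | zero => simp
      | add p s hp hs => rw [map_add, map_add, hp, hs, smul_add]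
      | tmul p s => simp [R, tmul_smul, smul_tmul']))
  have hΨ : ∀ x : C, lamB.rTensor A (τ x) = Ψ (comul (R := k) x) := by
    intro x
    obtain ⟨a, rfl⟩ := hψ x
    rw [← CoalgHomClass.map_comp_comul_apply ψ, hτ]
    let Θ : A ⊗[k] (A ⊗[k] A) →ₗ[k] (A ⊗[k] C) ⊗[B] A := TensorProduct.lift (LinearMap.mk₂ k
      (fun p w => (Algebra.TensorProduct.map (AlgHom.id k A) (ψ : A →ₐ[k] C) w) ⊗ₜ[B] HopfAlgebra.antipode k p)
      (fun p p' w => by rw [map_add, tmul_add])
      (fun r p w => by rw [map_smul, tmul_smul])
      (fun p w w' => by rw [map_add, add_tmul])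
      (fun r p w => by rw [map_smul, smul_tmul']))
    have hl : lamB.rTensor A (τ0 a) = Θ (LinearMap.lTensor A (comul (R := k)) (comul (R := k) a)) := by
      rw [show τ0 a = _ from AlgHom.convMul_apply _ _ _]
      generalize comul (R := k) a = y
      induction y using TensorProduct.induction_on with
      | zero => simp
      | add p r hp hr => simp only [map_add, hp, hr]
      | tmul p r =>
        simp [Θ, il, ir, lamB, lam_apply]
        erw [Algebra.TensorProduct.tmul_mul_tmul]
        simp
    rw [hl, ← Coalgebra.coassoc_apply]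
    generalize comul (R := k) a = y
    induction y using TensorProduct.induction_on with
    | zero => simp
    | add p r hp hr => simp only [map_add, hp, hr]
    | tmul p r =>
      simp only [LinearMap.rTensor_tmul, TensorProduct.map_tmul, Ψ, TensorProduct.lift.tmul, LinearMap.mk₂_apply]
      change _ = (R (ψ r)).rTensor A (τ (ψ p))
      rw [hτ, show τ0 p = _ from AlgHom.convMul_apply _ _ _]
      generalize comul (R := k) p = w
      induction w using TensorProduct.induction_on with
      | zero => simp
      | add s t hs ht => simp only [map_add, add_tmul, hs, ht]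
      | tmul s t =>
        simp [Θ, R, il, ir]
        erw [Algebra.TensorProduct.tmul_mul_tmul]
        simp
  have hq : ∀ l, comul (R := k) (q l) = ∑ i, q i ⊗ₜ[k] Q i l := by
    intro l
    simp only [q, map_sum, map_smul, hQ, Finset.smul_sum, sum_tmul, smul_tmul']
    rw [Finset.sum_comm]
  have hΦZ : Φ.rTensor A Z = 0 := by
    have hcomp : ∀ l, (comp l).rTensor A Z = 0 := by
      intro l
      have e : ∀ i, (comp l).rTensor A ((LinearMap.single B (fun _ : ι => A) i).rTensor A (τ (q i))) =
          (if i = l then lamB.rTensor A (τ (q l)) else 0) - (R (Q i l)).rTensor A (τ (q i)) := by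
        intro i
        rw [← LinearMap.comp_apply, ← LinearMap.rTensor_comp]
        have e2 : comp l ∘ₗ LinearMap.single B (fun _ : ι => A) i =
            (if i = l then lamB else 0) - R (Q i l) := by
          refine LinearMap.ext fun a => ?_
          simp only [comp, LinearMap.comp_apply, LinearMap.sub_apply, LinearMap.coe_sum, Finset.sum_apply,
            LinearMap.proj_apply, LinearMap.single_apply]
          rw [Finset.sum_eq_single i (fun j _ hj => by rw [Pi.single_eq_of_ne hj]; exact map_zero _) (by simp),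
            Pi.single_eq_same]
          split_ifs with h
          · subst h; rw [Pi.single_eq_same]
          · rw [Pi.single_eq_of_ne (Ne.symm h), map_zero, LinearMap.zero_apply]
        rw [e2, LinearMap.rTensor_sub, LinearMap.sub_apply]
        split_ifs with h
        · subst h; rfl
        · simp
      simp only [Z, map_sum, e, Finset.sum_sub_distrib, Finset.sum_ite_eq', Finset.mem_univ, if_true]
      rw [hΨ, hq, map_sum, sub_eq_zero]
      exact Finset.sum_congr rfl fun i _ => rfl
    have hsum : Φ = ∑ l, LinearMap.single B (fun _ : ι => A ⊗[k] C) l ∘ₗ comp l := by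
      refine LinearMap.ext fun z => funext fun l => ?_
      simp [Φ, Pi.single_apply]
    rw [hsum, show ∀ (f : ι → ((ι → A) →ₗ[B] (ι → A ⊗[k] C))), (∑ l, f l).rTensor A = ∑ l, (f l).rTensor A from
      fun f => map_sum (LinearMap.rTensorHom A) f _, LinearMap.sum_apply]
    exact Finset.sum_eq_zero fun l _ => by rw [LinearMap.rTensor_comp, LinearMap.comp_apply, hcomp, map_zero]
  obtain ⟨W, hW⟩ : Z ∈ LinearMap.range ((LinearMap.ker Φ).subtype.rTensor A) :=
    ((Module.Flat.rTensor_exact A (LinearMap.exact_subtype_ker_map Φ)) Z).1 hΦZ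
  have hFZ : F.rTensor A Z = (1 : T) := by
    have e : ∀ i, F.rTensor A ((LinearMap.single B (fun _ : ι => A) i).rTensor A (τ (q i))) = c i • τ (q i) := by
      intro i
      rw [← LinearMap.comp_apply, ← LinearMap.rTensor_comp]
      have e2 : F ∘ₗ LinearMap.single B (fun _ : ι => A) i = c i • (LinearMap.id : A →ₗ[B] A) := by
        refine LinearMap.ext fun a => ?_
        simp [F, Pi.single_apply]
      rw [e2]
      generalize τ (q i) = t
      induction t using TensorProduct.induction_on with
      | zero => simp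
      | add p r hp hr => rw [map_add, hp, hr, smul_add]
      | tmul p r => exact (smul_tmul' (c i) p r).symm
    have e3 : ∑ i, c i • q i = (1 : C) := by
      simp only [q, Finset.smul_sum, smul_smul]
      rw [Finset.sum_comm]
      have : ∀ j, ∑ i, (c i * v j) • Q j i = (v j * c j) • (1 : C) := fun j => by
        rw [← smul_smul, ← hc, Finset.smul_sum]
        exact Finset.sum_congr rfl fun i _ => by rw [smul_smul, mul_comm]
      rw [Finset.sum_congr rfl fun j _ => this j, ← Finset.sum_smul, hv, one_smul]
    simp only [Z, map_sum, e]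
    rw [← map_one τ, ← e3, map_sum]
    exact Finset.sum_congr rfl fun i _ => (map_smul τ _ _).symm
  -- descend
  let g : LinearMap.ker Φ →ₗ[B] A := F ∘ₗ (LinearMap.ker Φ).subtype
  have hmem : ∀ z : LinearMap.ker Φ, g z ∈ B := by
    intro z
    have hz : ∀ l, lam ψ (z.1 l) = ∑ j, z.1 j ⊗ₜ[k] Q j l := by
      intro l
      have h := congrFun (LinearMap.mem_ker.1 z.2) l
      simp only [Φ, comp, LinearMap.pi_apply, LinearMap.sub_apply, LinearMap.comp_apply, LinearMap.coe_sum,
        Finset.sum_apply, LinearMap.proj_apply, Pi.zero_apply, sub_eq_zero] at h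
      exact h
    have hg : g z = ∑ i, c i • z.1 i := by simp [g, F]
    have hinv : lam ψ (g z) = g z ⊗ₜ[k] (1 : C) := by
      rw [hg, map_sum, sum_tmul]
      simp only [map_smul, hz, Finset.smul_sum]
      rw [Finset.sum_comm]
      refine Finset.sum_congr rfl fun j _ => ?_
      rw [smul_tmul, ← hc, tmul_sum]
      exact Finset.sum_congr rfl fun i _ => (tmul_smul _ _ _).symm
    refine mem_of_invariant h1 h2 (J := RingHom.ker (ψ : A →ₐ[k] C)) hker.le ?_
    have h := congrArg (Algebra.TensorProduct.map (AlgHom.id k A) eC.symm.toAlgHom) hinv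
    rw [Algebra.TensorProduct.map_tmul, map_one, AlgHom.id_apply, lam_apply] at h
    refine Eq.trans ?_ h
    generalize comul (R := k) (g z) = y
    induction y using TensorProduct.induction_on with
    | zero => simp
    | add p r hp hr => simp only [map_add, hp, hr]
    | tmul p r =>
      simp only [Algebra.TensorProduct.map_tmul, AlgHom.coe_id, id_eq, AlgEquiv.coe_toAlgHom]
      congr 1
      exact (eC.symm_apply_apply (Ideal.Quotient.mk _ r)).symm
  let I : Ideal B := (LinearMap.range g).comap (Algebra.linearMap B A)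
  have hμ : ∀ w : (LinearMap.ker Φ) ⊗[B] A, LinearMap.mul' B A (g.rTensor A w) ∈ I.map (algebraMap B A) := by
    intro w
    induction w using TensorProduct.induction_on with
    | zero => simp
    | add p r hp hr => simp only [map_add]; exact add_mem hp hr
    | tmul z a =>
      rw [LinearMap.rTensor_tmul, LinearMap.mul'_apply]
      refine Ideal.mul_mem_right _ _ ?_
      have : g z = algebraMap B A ⟨g z, hmem z⟩ := rfl
      rw [this]
      exact Ideal.mem_map_of_mem _ ⟨z, rfl⟩
  have hone : (1 : A) ∈ I.map (algebraMap B A) := by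
    have h := hμ W
    have e : g.rTensor A W = (1 : T) := by
      simp only [g, LinearMap.rTensor_comp, LinearMap.comp_apply, hW]
      exact hFZ
    rwa [e, Algebra.TensorProduct.one_def, LinearMap.mul'_apply, one_mul] at h
  have hI : (1 : B) ∈ I := by
    rw [← Ideal.comap_map_eq_self_of_faithfullyFlat (B := A) I, Ideal.mem_comap, map_one]
    exact hone
  obtain ⟨z, hz⟩ := hI
  let αR : A →ₗ[k] k := α ∘ₗ HopfAlgebra.antipode k
  refine ⟨fun i => αR (z.1 i), fun i => ?_, ?_⟩
  · have h := congrFun (LinearMap.mem_ker.1 z.2) i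
    simp only [Φ, comp, LinearMap.pi_apply, LinearMap.sub_apply, LinearMap.comp_apply, LinearMap.coe_sum,
      Finset.sum_apply, LinearMap.proj_apply, Pi.zero_apply, sub_eq_zero] at h
    have h' : lam ψ (z.1 i) = ∑ j, z.1 j ⊗ₜ[k] Q j i := h
    have h3 := congrArg (lslice αR) h'
    rw [map_sum] at h3
    simp only [lslice_tmul] at h3
    rw [← h3, lam_apply]
    have e : ∀ y : A ⊗[k] A, lslice αR (Algebra.TensorProduct.map (AlgHom.id k A) (ψ : A →ₐ[k] C) y) =
        (ψ : A →ₐ[k] C) (lslice αR y) := fun y => by
      induction y using TensorProduct.induction_on with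
      | zero => simp
      | add p r hp hr => simp only [map_add, hp, hr]
      | tmul p r => simp
    rw [e, right_of_left hα, map_smul, map_one]
  · have hz1 : ∑ i, c i • z.1 i = (1 : A) := by
      have : g z = (1 : A) := hz.trans (map_one (algebraMap B A))
      rw [← this]; simp [g, F]
    have h := congrArg αR hz1
    simp only [map_sum, map_smul, smul_eq_mul] at h
    rw [show αR 1 = 1 by simp [αR, hα1]] at h
    rw [← h]
    exact Finset.sum_congr rfl fun i _ => mul_comm _ _

include h1 h2 hψ hker in
/-- the kernel of a map out of a linearly reductive group has an integral -/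
theorem exists_isLeftInt_kernel {α : A →ₗ[k] k} (hα : IsLeftInt α) (hα1 : α 1 = 1) :
    ∃ β : C →ₗ[k] k, IsLeftInt β ∧ β 1 = 1 := by
  classical
  let Good : Submodule k C → (C →ₗ[k] k) → Prop := fun N ξ =>
    ξ 1 = 1 ∧ ∀ y ∈ N, lslice ξ (comul (R := k) y) = ξ y • (1 : C)
  let Nice : Submodule k C → Prop := fun N =>
    Module.Finite k N ∧ (1 : C) ∈ N ∧ (∀ y ∈ N, HopfAlgebra.antipode k y ∈ N) ∧
      ∀ y ∈ N, comul (R := k) y ∈ LinearMap.range (N.subtype.rTensor C)
  have hnice : ∀ y : C, ∃ N, Nice N ∧ y ∈ N := by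
    intro y
    obtain ⟨M, hM, hyM⟩ := exists_finite_subcomod_of_finite (k := k) (C := C) (V := C) {y, 1} (Set.toFinite _)
    let M' : Submodule k C := M.restrictScalars k
    haveI : Module.Finite k M' := hM
    letI := ComodSub.Comod.restr (HopfRep.Comod.regular k C) M' (isSubcomod_restrict M)
    let b := Module.finBasis k M'
    let P := coefMatrix (A := C) b
    let S : Set C := Set.range (fun x : Fin _ × Fin _ => P x.1 x.2) ∪
      Set.range (fun x : Fin _ × Fin _ => HopfAlgebra.antipode k (P x.1 x.2))
    let N : Submodule k C := Submodule.span k S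
    haveI : Module.Finite k N := Module.Finite.span_of_finite k ((Set.finite_range _).union (Set.finite_range _))
    have hmemM : ∀ m : M', (m : C) ∈ N := by
      intro m
      rw [← b.sum_repr m]
      simp only [Submodule.coe_sum, SetLike.val_smul]
      refine sum_mem fun j _ => Submodule.smul_mem _ _ ?_
      have hb : (b j : C) = ∑ i, counit (R := k) (b i : C) • P i j := by
        have h1 := congrArg (M'.subtype.rTensor C) (coact_eq_sum (A := C) b j)
        rw [ComodSub.restr_coact_coe (HopfRep.Comod.regular k C) M' (isSubcomod_restrict M), map_sum] at h1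
        have h2 := congrArg (fun t => TensorProduct.lid k C ((counit (R := k) (A := C)).rTensor C t)) h1
        simp only [map_sum, LinearMap.rTensor_tmul, TensorProduct.lid_tmul, Submodule.subtype_apply] at h2
        rw [show (HopfRep.Comod.regular k C).coact (b j : C) = comul (R := k) (b j : C) from rfl,
          Coalgebra.rTensor_counit_comul, TensorProduct.lid_tmul, one_smul] at h2
        exact h2
      rw [hb]
      exact sum_mem fun i _ => Submodule.smul_mem _ _ (Submodule.subset_span (Or.inl ⟨(i, j), rfl⟩))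
    refine ⟨N, ⟨inferInstance, hmemM ⟨1, hyM (by simp)⟩, ?_, ?_⟩, hmemM ⟨y, hyM (by simp)⟩⟩
    · intro x hx
      induction hx using Submodule.span_induction with
      | mem s hs =>
        rcases hs with ⟨x, rfl⟩ | ⟨x, rfl⟩
        · exact Submodule.subset_span (Or.inr ⟨x, rfl⟩)
        · rw [antipode_antipode]; exact Submodule.subset_span (Or.inl ⟨x, rfl⟩)
      | zero => rw [map_zero]; exact zero_mem _
      | add p r _ _ hp hr => rw [map_add]; exact add_mem hp hr
      | smul a p _ hp => rw [map_smul]; exact Submodule.smul_mem _ _ hp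
    · intro x hx
      induction hx using Submodule.span_induction with
      | mem s hs =>
        rcases hs with ⟨⟨i, j⟩, rfl⟩ | ⟨⟨i, j⟩, rfl⟩
        · dsimp only
          rw [comul_coefMatrix]
          exact sum_mem fun l _ => ⟨(⟨P i l, Submodule.subset_span (Or.inl ⟨(i, l), rfl⟩)⟩ : N) ⊗ₜ P l j, rfl⟩
        · dsimp only
          rw [comul_antipode, comul_coefMatrix, map_sum, map_sum]
          refine sum_mem fun l _ => ?_
          simp only [Algebra.TensorProduct.map_tmul, Algebra.TensorProduct.lmul'_apply_tmul, AlgHom.comp_apply,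
            Algebra.TensorProduct.includeRight_apply, Algebra.TensorProduct.includeLeft_apply,
            Algebra.TensorProduct.tmul_mul_tmul, one_mul, mul_one]
          exact ⟨(⟨HopfAlgebra.antipode k (P l j), Submodule.subset_span (Or.inr ⟨(l, j), rfl⟩)⟩ : N) ⊗ₜ
            HopfAlgebra.antipode k (P i l), rfl⟩
      | zero => rw [map_zero]; exact zero_mem _
      | add p r _ _ hp hr => rw [map_add]; exact add_mem hp hr
      | smul a p _ hp => rw [map_smul]; exact Submodule.smul_mem _ _ hp
  have hex : ∀ N, Nice N → ∃ ξ, Good N ξ := by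
    rintro N ⟨hfin, hone, -, hsub⟩
    haveI := hfin
    letI := ComodSub.Comod.restr (HopfRep.Comod.regular k C) N hsub
    let b := Module.finBasis k N
    have hcoe : ∀ j, comul (R := k) (b j : C) = ∑ i, (b i : C) ⊗ₜ[k] coefMatrix (A := C) b i j := by
      intro j
      have h1 := congrArg (N.subtype.rTensor C) (coact_eq_sum (A := C) b j)
      rw [ComodSub.restr_coact_coe (HopfRep.Comod.regular k C) N hsub, map_sum] at h1
      exact h1
    let c : Fin _ → k := fun i => b.repr ⟨1, hone⟩ i
    have hc1 : (1 : C) = ∑ i, c i • (b i : C) := by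
      have := congrArg N.subtype (b.sum_repr ⟨1, hone⟩)
      rw [map_sum] at this
      exact this.symm
    have hcfix : ∀ j, ∑ i, c i • coefMatrix (A := C) b j i = c j • (1 : C) := by
      intro j
      let ζ : C →ₗ[k] k := (LinearMap.exists_extend (b.coord j : N →ₗ[k] k)).choose
      have hζ : ∀ n : N, ζ n = b.coord j n := fun n =>
        LinearMap.congr_fun (LinearMap.exists_extend (b.coord j : N →ₗ[k] k)).choose_spec n
      have h1 := congrArg (lslice ζ) (Bialgebra.comul_one (R := k) (A := C))
      rw [Algebra.TensorProduct.one_def, lslice_tmul] at h1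
      have h2 : ζ 1 = c j := hζ ⟨1, hone⟩
      rw [← h2, ← h1, hc1]
      simp only [map_sum, map_smul, hcoe, lslice_tmul, hζ, Module.Basis.coord_apply, Module.Basis.repr_self]
      refine Finset.sum_congr rfl fun i _ => ?_
      congr 1
      rw [Finset.sum_eq_single j (fun l _ hl => by rw [Finsupp.single_eq_of_ne (Ne.symm hl), zero_smul]) (by simp),
        Finsupp.single_eq_same, one_smul]
    have hεc : ∑ i, counit (R := k) (b i : C) * c i = 1 := by
      have := congrArg (counit (R := k)) hc1
      rw [Bialgebra.counit_one, map_sum] at this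
      rw [this]
      exact Finset.sum_congr rfl fun i _ => by rw [map_smul, smul_eq_mul, mul_comm]
    obtain ⟨x, hx, hxc⟩ := exists_fixed_row B h1 h2 ψ hψ hker hα hα1 (coefMatrix (A := C) b)
      (fun i j => comul_coefMatrix b i j) c _ hcfix hεc
    obtain ⟨ξ, hξ⟩ := LinearMap.exists_extend (b.constr k x : N →ₗ[k] k)
    have hξb : ∀ i, ξ (b i : C) = x i := fun i =>
      (LinearMap.congr_fun hξ (b i)).trans (b.constr_basis k x i)
    refine ⟨ξ, ?_, fun y hy => ?_⟩
    · rw [hc1, map_sum, ← hxc]
      exact Finset.sum_congr rfl fun i _ => by rw [map_smul, hξb, smul_eq_mul, mul_comm]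
    · have e : y = ∑ i, b.repr ⟨y, hy⟩ i • (b i : C) := by
        have := congrArg N.subtype (b.sum_repr ⟨y, hy⟩)
        rw [map_sum] at this
        exact this.symm
      rw [e]
      simp only [map_sum, map_smul, hcoe, lslice_tmul, hξb, hx, Finset.sum_smul, smul_smul, smul_eq_mul]
  have hflip : ∀ N, Nice N → ∀ ξ ξ', Good N ξ → Good N ξ' → ∀ y ∈ N, ξ y = ξ' (HopfAlgebra.antipode k y) := by
    rintro N ⟨-, hone, hS, -⟩ ξ ξ' ⟨hξ1, hξ⟩ ⟨hξ'1, hξ'⟩ y hy
    have e : ∀ z : C ⊗[k] C, ξ' (HopfAlgebra.antipode k (lslice ξ z)) =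
        ξ (slice (ξ' ∘ₗ HopfAlgebra.antipode k) z) := fun z => by
      induction z using TensorProduct.induction_on with
      | zero => simp
      | add p r hp hr => simp only [map_add, hp, hr]
      | tmul p r => simp [mul_comm]
    have hs : HopfAlgebra.antipode k (slice (ξ' ∘ₗ HopfAlgebra.antipode k) (comul (R := k) y)) =
        lslice ξ' (comul (R := k) (HopfAlgebra.antipode k y)) := by
      rw [comul_antipode]
      generalize comul (R := k) y = z
      induction z using TensorProduct.induction_on with
      | zero => simp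
      | add a b ha hb => simp [ha, hb]
      | tmul c d => simp [Algebra.TensorProduct.tmul_mul_tmul]
    have hs' := congrArg (HopfAlgebra.antipode k) hs
    rw [antipode_antipode, hξ' _ (hS y hy), map_smul, HopfAlgebra.antipode_one] at hs'
    have h := e (comul (R := k) y)
    rw [hξ y hy, map_smul, HopfAlgebra.antipode_one, map_smul, hξ'1, smul_eq_mul, mul_one, hs', map_smul, hξ1,
      smul_eq_mul, mul_one] at h
    exact h
  have huniq : ∀ N, Nice N → ∀ ξ ξ', Good N ξ → Good N ξ' → ∀ y ∈ N, ξ y = ξ' y := fun N hN ξ ξ' h h' y hy =>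
    (hflip N hN ξ ξ' h h' y hy).trans (hflip N hN ξ' ξ' h' h' y hy).symm
  choose N hN hyN using hnice
  choose ξ hξ using hex
  let val : C → k := fun y => ξ (N y) (hN y) y
  have hval : ∀ M, ∀ (hM : Nice M) (y : C), y ∈ M → val y = ξ M hM y := by
    intro M hM y hy
    obtain ⟨⟨hMf, hM1, hMS, hMc⟩, ⟨hNf, hN1, hNS, hNc⟩⟩ := And.intro hM (hN y)
    haveI := hMf; haveI := hNf
    have hU : Nice (M ⊔ N y) := ⟨inferInstance, Submodule.mem_sup_left hM1, fun z hz => by
      obtain ⟨p, hp, r, hr, rfl⟩ := Submodule.mem_sup.1 hz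
      rw [map_add]; exact Submodule.add_mem_sup (hMS p hp) (hNS r hr), fun z hz => by
      obtain ⟨p, hp, r, hr, rfl⟩ := Submodule.mem_sup.1 hz
      rw [map_add]
      refine add_mem ?_ ?_
      · obtain ⟨t, ht⟩ := hMc p hp
        exact ⟨(Submodule.inclusion le_sup_left).rTensor C t, by
          rw [← ht, ← LinearMap.comp_apply, ← LinearMap.rTensor_comp, Submodule.subtype_comp_inclusion]⟩
      · obtain ⟨t, ht⟩ := hNc r hr
        exact ⟨(Submodule.inclusion le_sup_right).rTensor C t, by
          rw [← ht, ← LinearMap.comp_apply, ← LinearMap.rTensor_comp, Submodule.subtype_comp_inclusion]⟩⟩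
    have a := huniq (N y) (hN y) _ (ξ _ hU) (hξ _ (hN y))
      ⟨(hξ _ hU).1, fun z hz => (hξ _ hU).2 z (Submodule.mem_sup_right hz)⟩ y (hyN y)
    have b := huniq M hM _ (ξ _ hU) (hξ _ hM)
      ⟨(hξ _ hU).1, fun z hz => (hξ _ hU).2 z (Submodule.mem_sup_left hz)⟩ y hy
    exact a.trans b.symm
  have hadd : ∀ y y', val (y + y') = val y + val y' := by
    intro y y'
    obtain ⟨hf, h1', hS, hc⟩ := hN y
    obtain ⟨hf', h1'', hS', hc'⟩ := hN y'
    haveI := hf; haveI := hf'
    have hU : Nice (N y ⊔ N y') := ⟨inferInstance, Submodule.mem_sup_left h1', fun z hz => by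
      obtain ⟨p, hp, r, hr, rfl⟩ := Submodule.mem_sup.1 hz
      rw [map_add]; exact Submodule.add_mem_sup (hS p hp) (hS' r hr), fun z hz => by
      obtain ⟨p, hp, r, hr, rfl⟩ := Submodule.mem_sup.1 hz
      rw [map_add]
      refine add_mem ?_ ?_
      · obtain ⟨t, ht⟩ := hc p hp
        exact ⟨(Submodule.inclusion le_sup_left).rTensor C t, by
          rw [← ht, ← LinearMap.comp_apply, ← LinearMap.rTensor_comp, Submodule.subtype_comp_inclusion]⟩
      · obtain ⟨t, ht⟩ := hc' r hr
        exact ⟨(Submodule.inclusion le_sup_right).rTensor C t, by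
          rw [← ht, ← LinearMap.comp_apply, ← LinearMap.rTensor_comp, Submodule.subtype_comp_inclusion]⟩⟩
    rw [hval _ hU y (Submodule.mem_sup_left (hyN y)), hval _ hU y' (Submodule.mem_sup_right (hyN y')),
      hval _ hU _ (Submodule.add_mem_sup (hyN y) (hyN y')), map_add]
  let β : C →ₗ[k] k :=
    { toFun := val
      map_add' := hadd
      map_smul' := fun a y => by
        rw [hval _ (hN y) _ (Submodule.smul_mem _ a (hyN y)), map_smul]
        rfl }
  have hβS : ∀ y, β y = β (HopfAlgebra.antipode k y) := fun y => by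
    show val y = val _
    rw [hval _ (hN y) y (hyN y), hval _ (hN y) _ ((hN y).2.2.1 y (hyN y))]
    exact hflip _ (hN y) _ _ (hξ _ (hN y)) (hξ _ (hN y)) y (hyN y)
  have hright : ∀ y, lslice β (comul (R := k) y) = β y • (1 : C) := by
    intro y
    obtain ⟨hNf, hone, hS, hsub⟩ := hN y
    obtain ⟨z, hz⟩ := hsub y (hyN y)
    show lslice β (comul (R := k) y) = val y • (1 : C)
    rw [show val y = ξ (N y) (hN y) y from rfl, ← (hξ _ (hN y)).2 y (hyN y), ← hz]
    clear hz
    induction z using TensorProduct.induction_on with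
    | zero => simp
    | add p r hp hr => simp only [map_add, hp, hr]
    | tmul p r =>
      rw [LinearMap.rTensor_tmul, lslice_tmul, lslice_tmul]
      congr 1
      exact hval _ (hN y) _ p.2
  refine ⟨β, ?_, (hξ _ (hN 1)).1⟩
  have := IsLeftInt.of_right hright
  rwa [show β ∘ₗ HopfAlgebra.antipode k = β from LinearMap.ext fun y => (hβS y).symm] at this

end Groth.Agent.HopfFF.RedExt
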