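import Mathlib.RingTheory.HopfAlgebra.Basic
import Mathlib.RingTheory.Bialgebra.Equiv
import Mathlib.RingTheory.HopfAlgebra.Convolution
import Mathlib.RingTheory.FiniteType
import Mathlib.RingTheory.TensorProduct.Maps
import Mathlib.Logic.Small.Basic

/-!
# Transport of Hopf algebra structures along algebra isomorphisms
-/

namespace Groth.Agent.HopfFF.Transport

open TensorProduct

universe u v w

variable {k : Type u} [CommRing k] {A : Type v} [CommRing A] [HopfAlgebra k A]
  {A' : Type w} [CommRing A'] [Algebra k A'] (e : A' ≃ₐ[k] A)

/-- transported comultiplication -/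
noncomputable def comulHom : A' →ₐ[k] A' ⊗[k] A' :=
  (Algebra.TensorProduct.map e.symm.toAlgHom e.symm.toAlgHom).comp
    ((Bialgebra.comulAlgHom k A).comp e.toAlgHom)

theorem comulHom_symm (x : A) :
    comulHom e (e.symm x) =
      Algebra.TensorProduct.map e.symm.toAlgHom e.symm.toAlgHom (Coalgebra.comul (R := k) x) := by
  simp [comulHom]

/-- transported counit -/
noncomputable def counitHom : A' →ₐ[k] k := (Bialgebra.counitAlgHom k A).comp e.toAlgHom

@[reducible] noncomputable def bialgebra : Bialgebra k A' := by
  refine Bialgebra.ofAlgHom (comulHom e) (counitHom e) ?_ ?_ ?_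
  · refine AlgHom.ext fun b => ?_
    obtain ⟨a, rfl⟩ := e.symm.surjective b
    simp only [AlgHom.comp_apply, comulHom_symm]
    let T : A ⊗[k] (A ⊗[k] A) →ₐ[k] A' ⊗[k] (A' ⊗[k] A') :=
      Algebra.TensorProduct.map e.symm.toAlgHom
        (Algebra.TensorProduct.map e.symm.toAlgHom e.symm.toAlgHom)
    have h := congrArg T (Coalgebra.coassoc_apply (R := k) (A := A) a)
    refine Eq.trans ?_ (h.trans ?_)
    · generalize Coalgebra.comul (R := k) a = z
      induction z using TensorProduct.induction_on with
      | zero => simp
      | add x y hx hy => simp only [map_add, hx, hy]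
      | tmul x y =>
        simp only [Algebra.TensorProduct.map_tmul, AlgHom.coe_id, id_eq, LinearMap.rTensor_tmul,
          AlgEquiv.coe_toAlgHom, comulHom_symm]
        generalize Coalgebra.comul (R := k) x = w
        induction w using TensorProduct.induction_on with
        | zero => simp
        | add p q hp hq => simp only [map_add, add_tmul, hp, hq]
        | tmul p q => simp [T]
    · generalize Coalgebra.comul (R := k) a = z
      induction z using TensorProduct.induction_on with
      | zero => simp
      | add x y hx hy => simp only [map_add, hx, hy]
      | tmul x y => simp [T, comulHom_symm]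
  · refine AlgHom.ext fun b => ?_
    obtain ⟨a, rfl⟩ := e.symm.surjective b
    simp only [AlgHom.comp_apply, comulHom_symm]
    have h := congrArg (Algebra.TensorProduct.map (AlgHom.id k k) e.symm.toAlgHom)
      (Coalgebra.rTensor_counit_comul (R := k) a)
    refine Eq.trans ?_ (h.trans (by simp))
    generalize Coalgebra.comul (R := k) a = z
    induction z using TensorProduct.induction_on with
    | zero => simp
    | add x y hx hy => simp only [map_add, hx, hy]
    | tmul x y => simp [counitHom]
  · refine AlgHom.ext fun b => ?_
    obtain ⟨a, rfl⟩ := e.symm.surjective b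
    simp only [AlgHom.comp_apply, comulHom_symm]
    have h := congrArg (Algebra.TensorProduct.map e.symm.toAlgHom (AlgHom.id k k))
      (Coalgebra.lTensor_counit_comul (R := k) a)
    refine Eq.trans ?_ (h.trans (by simp))
    generalize Coalgebra.comul (R := k) a = z
    induction z using TensorProduct.induction_on with
    | zero => simp
    | add x y hx hy => simp only [map_add, hx, hy]
    | tmul x y => simp [counitHom]

@[reducible] noncomputable def hopfAlgebra : HopfAlgebra k A' :=
  letI := bialgebra e
  HopfAlgebra.ofAlgHom (e.symm.toAlgHom.comp ((HopfAlgebra.antipodeAlgHom k A).comp e.toAlgHom))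
    (AlgHom.ext fun b => by
      obtain ⟨a, rfl⟩ := e.symm.surjective b
      have h := congrArg e.symm (HopfAlgebra.mul_antipode_rTensor_comul_apply (R := k) a)
      change Algebra.TensorProduct.lift _ (AlgHom.id k A') (fun _ _ => Commute.all _ _)
        (comulHom e (e.symm a)) = algebraMap k A' (counitHom e (e.symm a))
      rw [comulHom_symm]
      refine Eq.trans ?_ (h.trans (by simp [counitHom]))
      generalize Coalgebra.comul (R := k) a = z
      induction z using TensorProduct.induction_on with
      | zero => simp
      | add x y hx hy => simp only [map_add, hx, hy]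
      | tmul x y => simp)
    (AlgHom.ext fun b => by
      obtain ⟨a, rfl⟩ := e.symm.surjective b
      have h := congrArg e.symm (HopfAlgebra.mul_antipode_lTensor_comul_apply (R := k) a)
      change Algebra.TensorProduct.lift (AlgHom.id k A') _ (fun _ _ => Commute.all _ _)
        (comulHom e (e.symm a)) = algebraMap k A' (counitHom e (e.symm a))
      rw [comulHom_symm]
      refine Eq.trans ?_ (h.trans (by simp [counitHom]))
      generalize Coalgebra.comul (R := k) a = z
      induction z using TensorProduct.induction_on with
      | zero => simp
      | add x y hx hy => simp only [map_add, hx, hy]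
      | tmul x y => simp)

/-- `e` as a bialgebra isomorphism -/
noncomputable def toBialgEquiv : letI := hopfAlgebra e; A' ≃ₐc[k] A :=
  letI := hopfAlgebra e
  BialgEquiv.ofAlgEquiv e (AlgHom.ext fun _ => rfl) (AlgHom.ext fun b => by
    obtain ⟨a, rfl⟩ := e.symm.surjective b
    change Algebra.TensorProduct.map e.toAlgHom e.toAlgHom (comulHom e (e.symm a)) =
      Coalgebra.comul (R := k) (e (e.symm a))
    rw [comulHom_symm, e.apply_symm_apply]
    generalize Coalgebra.comul (R := k) a = z
    induction z using TensorProduct.induction_on with
    | zero => simp
    | add x y hx hy => simp only [map_add, hx, hy]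
    | tmul x y => simp)

/-- a finite type algebra is small in the universe of the base -/
theorem small_of_finiteType (k : Type u) (A : Type v) [CommRing k] [CommRing A] [Algebra k A]
    [Algebra.FiniteType k A] : Small.{u} A := by
  obtain ⟨n, f, hf⟩ := Algebra.FiniteType.iff_quotient_mvPolynomial''.1 ‹Algebra.FiniteType k A›
  exact small_of_surjective hf

end Groth.Agent.HopfFF.Transport
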