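import Mathlib.AlgebraicGeometry.Group.Affine
import Groth.Agent.FibrewiseCrit.GrpRegular
import Groth.Agent.HopfFF.Transport

/-!
# Dimension and smoothness of a Hopf algebra of finite type at the identity
-/

set_option autoImplicit false

namespace Groth.Agent.HopfFF.SmoothCrit

universe u v

section

variable {k : Type u} [CommRing k] {A : Type v} [CommRing A] [Algebra k A]

/-- cotangent space at a rational point and at the localisation -/
theorem finrank_cotangent_atPrime {k : Type u} [Field k] {A : Type v} [CommRing A] [Algebra k A]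
    (ε : A →ₐ[k] k) [(RingHom.ker ε).IsPrime] :
    Module.finrank k (RingHom.ker ε).Cotangent =
      Module.finrank (IsLocalRing.ResidueField (Localization.AtPrime (RingHom.ker ε)))
        (IsLocalRing.CotangentSpace (Localization.AtPrime (RingHom.ker ε))) := by
  let m : Ideal A := RingHom.ker ε
  let R := Localization.AtPrime m
  let M : Ideal R := IsLocalRing.maximalIdeal R
  have hM : m.map (algebraMap A R) = M := Localization.AtPrime.map_eq_maximalIdeal
  have hc : ∀ a : A, a - algebraMap k A (ε a) ∈ m := fun a => by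
    rw [RingHom.mem_ker, map_sub, AlgHom.commutes]
    simp
  have hmem : ∀ {x : A}, x ∈ m → algebraMap A R x ∈ M := fun hx => hM ▸ Ideal.mem_map_of_mem _ hx
  let f : m.Cotangent →ₗ[k] M.Cotangent :=
    Ideal.mapCotangent m M (IsScalarTower.toAlgHom k A R) fun x hx => hmem hx
  have hf : ∀ x : m, f (m.toCotangent x) = M.toCotangent ⟨algebraMap A R x, hmem x.2⟩ := fun x =>
    Ideal.mapCotangent_toCotangent _ _ _ _ _
  have hbij : Function.Bijective f := by
    constructor
    · rw [injective_iff_map_eq_zero]
      intro y hy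
      obtain ⟨x, rfl⟩ := m.toCotangent_surjective y
      rw [hf, Ideal.toCotangent_eq_zero] at hy
      have hy' : algebraMap A R (x : A) ∈ (m ^ 2).map (algebraMap A R) := by
        rw [Ideal.map_pow, hM]; exact hy
      rw [IsLocalization.algebraMap_mem_map_algebraMap_iff m.primeCompl] at hy'
      obtain ⟨s, hs, hsx⟩ := hy'
      rw [Ideal.toCotangent_eq_zero]
      have hs0 : ε s ≠ 0 := hs
      have h1 : algebraMap k A (ε s) * (x : A) ∈ m ^ 2 := by
        have := sub_mem hsx (Ideal.mul_mem_mul (hc s) x.2 |> (pow_two m ▸ ·))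
        simpa [sub_mul] using this
      have h2 := Ideal.mul_mem_left (m ^ 2) (algebraMap k A (ε s)⁻¹) h1
      rwa [← mul_assoc, ← map_mul, inv_mul_cancel₀ hs0, map_one, one_mul] at h2
    · intro y
      obtain ⟨⟨y, hy⟩, rfl⟩ := M.toCotangent_surjective y
      obtain ⟨x, s, rfl⟩ := IsLocalization.exists_mk'_eq m.primeCompl y
      have hx : x ∈ m := (IsLocalization.AtPrime.mk'_mem_maximal_iff R m x s).1 hy
      have hs0 : ε (s : A) ≠ 0 := s.2
      let c : k := (ε (s : A))⁻¹
      refine ⟨m.toCotangent ⟨algebraMap k A c * x, Ideal.mul_mem_left _ _ hx⟩, ?_⟩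
      rw [hf, Ideal.toCotangent_eq]
      have e : algebraMap A R (algebraMap k A c * x) - IsLocalization.mk' R x s =
          IsLocalization.mk' R x s * algebraMap A R (algebraMap k A c * s - 1) := by
        rw [map_sub, map_one, mul_sub, mul_one, map_mul, map_mul,
          mul_left_comm, IsLocalization.mk'_spec]
      change algebraMap A R (algebraMap k A c * x) - IsLocalization.mk' R x s ∈ M ^ 2
      rw [e, pow_two]
      refine Ideal.mul_mem_mul hy (hmem ?_)
      rw [RingHom.mem_ker, map_sub, map_mul, AlgHom.commutes, map_one]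
      simp [c, hs0]
  rw [(LinearEquiv.ofBijective f hbij).finrank_eq]
  have hres : Function.Bijective (algebraMap k (IsLocalRing.ResidueField R)) := by
    refine ⟨(algebraMap k (IsLocalRing.ResidueField R)).injective, fun y => ?_⟩
    obtain ⟨y, rfl⟩ := IsLocalRing.residue_surjective y
    obtain ⟨x, s, rfl⟩ := IsLocalization.exists_mk'_eq m.primeCompl y
    refine ⟨ε x * (ε (s : A))⁻¹, ?_⟩
    rw [IsScalarTower.algebraMap_apply k R (IsLocalRing.ResidueField R), IsLocalRing.ResidueField.algebraMap_eq,
      IsLocalRing.residue]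
    refine Ideal.Quotient.eq.2 ?_
    have hs0 : ε (s : A) ≠ 0 := s.2
    have e : algebraMap k R (ε x * (ε (s : A))⁻¹) - IsLocalization.mk' R x s =
        IsLocalization.mk' R 1 s * algebraMap A R (algebraMap k A (ε x * (ε (s : A))⁻¹) * s - x) := by
      rw [map_sub, mul_sub, map_mul (algebraMap A R) _ (s : A), ← mul_assoc,
        IsScalarTower.algebraMap_apply k A R]
      congr 1
      · rw [mul_comm (IsLocalization.mk' R 1 s), mul_assoc, IsLocalization.mk'_spec, map_one, mul_one]
      · rw [mul_comm, ← IsLocalization.mk'_eq_mul_mk'_one]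
    rw [e]
    refine Ideal.mul_mem_left _ _ (hmem ?_)
    rw [RingHom.mem_ker, map_sub, map_mul, AlgHom.commutes]
    simp [hs0]
  have h1 : Module.finrank k (IsLocalRing.ResidueField R) = 1 :=
    (LinearEquiv.ofBijective (Algebra.linearMap k (IsLocalRing.ResidueField R)) hres).finrank_eq.symm.trans
      (Module.finrank_self k)
  haveI : IsScalarTower k (IsLocalRing.ResidueField R) (IsLocalRing.CotangentSpace R) :=
    IsScalarTower.of_algebraMap_smul fun r c => by
      rw [IsScalarTower.algebraMap_apply k R (IsLocalRing.ResidueField R), algebraMap_smul, algebraMap_smul]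
  have h2 := Module.finrank_mul_finrank k (IsLocalRing.ResidueField R) (IsLocalRing.CotangentSpace R)
  rw [h1, one_mul] at h2
  exact h2.symm

end

open CategoryTheory MonoidalCategory CartesianMonoidalCategory MonObj GrpObj AlgebraicGeometry

/-- dimension and smoothness are detected at the identity -/
theorem dim_eq_and_smooth_iff {k A : Type u} [Field k] [CommRing A] [HopfAlgebra k A]
    [Algebra.FiniteType k A] [(RingHom.ker (Bialgebra.counitAlgHom k A)).IsPrime] :
    ringKrullDim A = ringKrullDim (Localization.AtPrime (RingHom.ker (Bialgebra.counitAlgHom k A))) ∧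
      (Algebra.FormallySmooth k A ↔
        IsRegularLocalRing (Localization.AtPrime (RingHom.ker (Bialgebra.counitAlgHom k A)))) := by
  let G : Over (Spec (CommRingCat.of k)) := (Spec (CommRingCat.of A)).asOver (Spec (CommRingCat.of k))
  haveI : LocallyOfFiniteType G.hom :=
    inferInstanceAs (LocallyOfFiniteType (Spec (CommRingCat.of A) ↘ Spec (CommRingCat.of k)))
  have hη : η[G].left = Spec.map (CommRingCat.ofHom (Bialgebra.counitAlgHom k A).toRingHom) := by
    change _ = _
    simp [G, MonObj.one]
    rfl
  let q : PrimeSpectrum A := ⟨RingHom.ker (Bialgebra.counitAlgHom k A), inferInstance⟩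
  have hpt : η[G].left (IsLocalRing.closedPoint k) = q := by
    rw [hη]
    refine PrimeSpectrum.ext ?_
    show Ideal.comap (Bialgebra.counitAlgHom k A).toRingHom (IsLocalRing.maximalIdeal k) = _
    rw [IsLocalRing.maximalIdeal_eq_bot]
    rfl
  let e : Localization.AtPrime (RingHom.ker (Bialgebra.counitAlgHom k A)) ≃+*
      G.left.presheaf.stalk (η[G].left (IsLocalRing.closedPoint k)) := by
    rw [hpt]
    exact (StructureSheaf.stalkIso A q).toRingEquiv
  refine ⟨?_, ?_⟩
  · rw [← PrimeSpectrum.topologicalKrullDim_eq_ringKrullDim A]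
    exact (Groth.FibrewiseCrit.topologicalKrullDim_eq_stalk_unit (G := G)).trans (ringKrullDim_eq_of_ringEquiv e).symm
  · have hsm : Smooth G.hom ↔ Algebra.FormallySmooth k A := by
      change Smooth (Spec.map (CommRingCat.ofHom (algebraMap k A))) ↔ _
      rw [HasRingHomProperty.Spec_iff (P := @Smooth)]
      change RingHom.Smooth (algebraMap k A) ↔ _
      rw [RingHom.smooth_algebraMap]
      exact ⟨fun h => h.formallySmooth, fun h =>
        { formallySmooth := h, finitePresentation := (Algebra.FinitePresentation.of_finiteType).1 inferInstance }⟩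
    rw [← hsm, Groth.FibrewiseCrit.smooth_iff_regular_unit (G := G)]
    exact ⟨fun h => .of_ringEquiv e.symm, fun h => .of_ringEquiv e⟩

theorem isPrime_counit {k : Type u} {A : Type v} [Field k] [CommRing A] [HopfAlgebra k A] :
    (RingHom.ker (Bialgebra.counitAlgHom k A)).IsPrime :=
  RingHom.ker_isPrime _

/-- `dim ≤ dim` of the cotangent space, equality iff smooth -/
theorem dim_le_and_eq_iff {k : Type u} {A : Type v} [Field k] [CommRing A] [HopfAlgebra k A]
    [Algebra.FiniteType k A] :
    ringKrullDim A ≤ (Module.finrank k (RingHom.ker (Bialgebra.counitAlgHom k A)).Cotangent : WithBot ℕ∞) ∧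
      (ringKrullDim A = (Module.finrank k (RingHom.ker (Bialgebra.counitAlgHom k A)).Cotangent : WithBot ℕ∞) ↔
        Algebra.FormallySmooth k A) := by
  haveI := Transport.small_of_finiteType.{u, v} k A
  let e : Shrink.{u} A ≃ₐ[k] A := Shrink.algEquiv k A
  letI := Transport.hopfAlgebra e
  haveI : Algebra.FiniteType k (Shrink.{u} A) := Algebra.FiniteType.equiv ‹_› e.symm
  haveI := isPrime_counit (k := k) (A := Shrink.{u} A)
  obtain ⟨hd, hs⟩ := dim_eq_and_smooth_iff (k := k) (A := Shrink.{u} A)
  haveI : IsNoetherianRing (Shrink.{u} A) := Algebra.FiniteType.isNoetherianRing k _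
  have hcot : Module.finrank k (RingHom.ker (Bialgebra.counitAlgHom k A)).Cotangent =
      Module.finrank k (RingHom.ker (Bialgebra.counitAlgHom k (Shrink.{u} A))).Cotangent := by
    refine LinearEquiv.finrank_eq (LinearEquiv.ofLinear
      (Ideal.mapCotangent _ _ e.symm.toAlgHom fun x hx => ?_)
      (Ideal.mapCotangent _ _ e.toAlgHom fun x hx => ?_) ?_ ?_)
    · have hx' : Bialgebra.counitAlgHom k A x = 0 := hx
      change Bialgebra.counitAlgHom k A (e (e.symm x)) = 0
      rwa [e.apply_symm_apply]
    · exact hx
    · refine LinearMap.ext fun y => ?_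
      obtain ⟨y, rfl⟩ := Ideal.toCotangent_surjective _ y
      simp
    · refine LinearMap.ext fun y => ?_
      obtain ⟨y, rfl⟩ := Ideal.toCotangent_surjective _ y
      simp
  have hfs : Algebra.FormallySmooth k (Shrink.{u} A) ↔ Algebra.FormallySmooth k A :=
    ⟨fun _ => Algebra.FormallySmooth.of_equiv e, fun _ => Algebra.FormallySmooth.of_equiv e.symm⟩
  rw [hcot, finrank_cotangent_atPrime, ← ringKrullDim_eq_of_ringEquiv e.toRingEquiv, hd, ← hfs, hs]
  refine ⟨?_, ?_⟩
  · exact (ringKrullDim_le_spanFinrank_maximalIdeal _).trans_eq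
      (by rw [IsLocalRing.spanFinrank_maximalIdeal_eq_finrank_cotangentSpace])
  · rw [IsRegularLocalRing.iff_finrank_cotangentSpace]
    exact ⟨fun h => h.symm, fun h => h.symm⟩

end Groth.Agent.HopfFF.SmoothCrit
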