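import Groth.Agent.HopfFF.Range
import Groth.Agent.ComodBasic.Coalg
import Groth.Agent.ComodBasic.Integral
import Mathlib.RingTheory.FiniteType
import Mathlib.LinearAlgebra.TensorProduct.RightExactness

/-!
# Consequences of faithful flatness: equalisers, finitely generated Hopf subalgebras
-/

namespace Groth.Agent.HopfFF

open TensorProduct CoalgebraStruct Groth.Agent.ComodBasic

universe u v

variable {k : Type u} [Field k] {A : Type v} [CommRing A] [HopfAlgebra k A]

/-- the equaliser of `A ⇉ A ⊗_B A` is `B` when `A` is faithfully flat over `B` -/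
theorem mem_of_tmul_eq {B : Subalgebra k A} [Module.FaithfullyFlat B A] {x : A}
    (h : x ⊗ₜ[B] (1 : A) = (1 : A) ⊗ₜ[B] x) : x ∈ B := by
  let q := (LinearMap.range (Algebra.linearMap B A)).mkQ
  have h1 := congrArg (q.lTensor A) h
  rw [LinearMap.lTensor_tmul, LinearMap.lTensor_tmul,
    show q 1 = 0 from (Submodule.Quotient.mk_eq_zero _).2 ⟨1, by simp⟩, tmul_zero] at h1
  have h2 : q x = 0 := (Module.FaithfullyFlat.one_tmul_eq_zero_iff B (A := A) (m := q x)).1 h1.symm
  obtain ⟨b, hb⟩ := (Submodule.Quotient.mk_eq_zero _).1 h2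
  exact hb ▸ b.2

/-- every finite set lies in a finitely generated Hopf subalgebra -/
theorem exists_fg_hopfSubalg (s : Set A) (hs : s.Finite) : ∃ B : Subalgebra k A, s ⊆ B ∧ B.FG ∧
    (∀ b ∈ B, comul (R := k) b ∈
      LinearMap.range (TensorProduct.map B.val.toLinearMap B.val.toLinearMap)) ∧
    ∀ b ∈ B, HopfAlgebraStruct.antipode (R := k) (A := A) b ∈ B := by
  classical
  obtain ⟨M, hM, hfin, hsM⟩ := exists_finite_subcoalg (k := k) (C := A) s hs
  set D : Submodule k A := M.restrictScalars k with hD
  have hsub := isSubcoalg_restrict hM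
  obtain ⟨t, ht⟩ := Module.Finite.iff_fg.1 hfin
  let S : A →ₐ[k] A := HopfAlgebra.antipodeAlgHom k A
  let B : Subalgebra k A := Algebra.adjoin k (↑(t ∪ t.image S) : Set A)
  have hDB : D ≤ B.toSubmodule := by
    rw [← ht, Submodule.span_le]
    exact fun a ha => Algebra.subset_adjoin (by simp [Finset.mem_coe.mp ha])
  have hSDB : ∀ d ∈ D, S d ∈ B := by
    intro d hd
    have h1 : D ≤ B.toSubmodule.comap S.toLinearMap := by
      rw [← ht, Submodule.span_le]
      intro a ha
      exact Algebra.subset_adjoin (by
        simp only [Finset.coe_union, Finset.coe_image, Set.mem_union, Set.mem_image, Finset.mem_coe]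
        exact Or.inr ⟨a, ha, rfl⟩)
    exact h1 hd
  have htD : ∀ a ∈ t, a ∈ D := fun a ha => ht ▸ Submodule.subset_span ha
  refine ⟨B, fun a ha => hDB (hsM ha), ⟨_, rfl⟩, ?_, ?_⟩
  · intro b hb
    let P : Subalgebra k A :=
      (Algebra.TensorProduct.map B.val B.val).range.comap (Bialgebra.comulAlgHom k A)
    suffices B ≤ P from this hb
    refine Algebra.adjoin_le fun a ha => ?_
    simp only [Finset.coe_union, Finset.coe_image, Set.mem_union, Set.mem_image, Finset.mem_coe] at ha
    rcases ha with ha | ⟨a, ha, rfl⟩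
    · obtain ⟨z, hz⟩ := hsub a (htD a ha)
      show comul (R := k) a ∈ (Algebra.TensorProduct.map B.val B.val).range
      rw [← hz]
      clear hz
      induction z using TensorProduct.induction_on with
      | zero => simp
      | add p q hp hq => rw [map_add]; exact Subalgebra.add_mem _ hp hq
      | tmul p q => exact ⟨⟨p.1, hDB p.2⟩ ⊗ₜ ⟨q.1, hDB q.2⟩, rfl⟩
    · show CoalgebraStruct.comul (R := k) (HopfAlgebra.antipode k a) ∈
        (Algebra.TensorProduct.map B.val B.val).range
      rw [Groth.Agent.ComodBasic.comul_antipode]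
      obtain ⟨z, hz⟩ := hsub a (htD a ha)
      rw [← hz]
      clear hz
      induction z using TensorProduct.induction_on with
      | zero => simp
      | add p q hp hq => rw [map_add, map_add, map_add]; exact Subalgebra.add_mem _ hp hq
      | tmul p q =>
        refine ⟨⟨S q, hSDB _ q.2⟩ ⊗ₜ ⟨S p, hSDB _ p.2⟩, ?_⟩
        simp [S]
  · intro b hb
    suffices B ≤ B.comap S from this hb
    refine Algebra.adjoin_le fun a ha => ?_
    simp only [Finset.coe_union, Finset.coe_image, Set.mem_union, Set.mem_image, Finset.mem_coe] at ha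
    rcases ha with ha | ⟨a, ha, rfl⟩
    · exact hSDB a (htD a ha)
    · show HopfAlgebra.antipode k (HopfAlgebra.antipode k a) ∈ B
      rw [Groth.Agent.ComodBasic.antipode_antipode]
      exact hDB (htD a ha)

/-- divisibility descends along a faithfully flat map -/
theorem mem_of_dvd {B : Subalgebra k A} [Module.FaithfullyFlat B A] {a c : B}
    (h : (c : A) ∣ (a : A)) : c ∣ a := by
  have h1 : a ∈ ((Ideal.span {c} : Ideal B).map (algebraMap B A)).comap (algebraMap B A) := by
    rw [Ideal.mem_comap, Ideal.map_span, Set.image_singleton, Ideal.mem_span_singleton]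
    exact h
  rw [Ideal.comap_map_eq_self_of_faithfullyFlat] at h1
  exact Ideal.mem_span_singleton.1 h1

end Groth.Agent.HopfFF
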