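import Groth.Agent.HopfFF.FitProj
import Groth.Agent.S6890
import Groth.Agent.ComodBasic.Basic
import Mathlib.RingTheory.Flat.FaithfullyFlat.Basic
import Mathlib.RingTheory.Flat.Tensor
import Mathlib.RingTheory.HopfAlgebra.Basic
import Mathlib.RingTheory.HopfAlgebra.Convolution
import Mathlib.RingTheory.TensorProduct.Maps

/-!
# Takeuchi: a commutative Hopf algebra is faithfully flat over every Hopf subalgebra

No finiteness is needed. The shear `a ⊗ c ↦ Δ a * (1 ⊗ c)` acts semilinearly on `(B ⊗ A) ⊗_B M` for
a Hopf module `M ⊆ A`, so the Fitting ideals of `M` are stable, hence `0` or `1`, hence `M` is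
projective; the same applies to the coordinates of `1`.
-/

namespace Groth.Agent.HopfFF

open TensorProduct CoalgebraStruct Groth.Agent.ComodBasic

universe u v

variable {k : Type u} [Field k] {A : Type v} [CommRing A] [HopfAlgebra k A]

variable (k A) in
/-- the shear -/
noncomputable def shear : A ⊗[k] A →ₐ[k] A ⊗[k] A :=
  Algebra.TensorProduct.lift (Bialgebra.comulAlgHom k A) Algebra.TensorProduct.includeRight
    fun _ _ => .all _ _

variable (k A) in
/-- its inverse -/
noncomputable def shearInv : A ⊗[k] A →ₐ[k] A ⊗[k] A :=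
  Algebra.TensorProduct.lift
    ((Algebra.TensorProduct.map (AlgHom.id k A) (HopfAlgebra.antipodeAlgHom k A)).comp
      (Bialgebra.comulAlgHom k A)) Algebra.TensorProduct.includeRight
    fun _ _ => .all _ _

@[simp] theorem shear_tmul (a c : A) : shear k A (a ⊗ₜ c) = comul (R := k) a * ((1 : A) ⊗ₜ c) := rfl

@[simp] theorem shearInv_tmul (a c : A) : shearInv k A (a ⊗ₜ c) =
    (HopfAlgebraStruct.antipode (R := k) (A := A)).lTensor A (comul (R := k) a) * ((1 : A) ⊗ₜ c) := rfl

theorem shear_shearInv_apply (x : A ⊗[k] A) : shear k A (shearInv k A x) = x := by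
  induction x using TensorProduct.induction_on with
  | zero => simp
  | add x y hx hy => simp only [map_add, hx, hy]
  | tmul a c =>
    rw [shearInv_tmul, map_mul]
    let F : (A ⊗[k] A) ⊗[k] A →ₗ[k] A ⊗[k] A :=
      ((LinearMap.mul' k A) ∘ₗ (HopfAlgebraStruct.antipode (R := k) (A := A)).lTensor A).lTensor A ∘ₗ
        (TensorProduct.assoc k A A A).toLinearMap
    have h1 : ∀ z : A ⊗[k] A, shear k A ((HopfAlgebraStruct.antipode (R := k) (A := A)).lTensor A z) =
        F ((comul (R := k) (A := A)).rTensor A z) := by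
      intro z
      induction z using TensorProduct.induction_on with
      | zero => simp
      | add x y hx hy => simp only [map_add, hx, hy]
      | tmul p q =>
        simp only [LinearMap.lTensor_tmul, shear_tmul, LinearMap.rTensor_tmul]
        generalize comul (R := k) p = w
        induction w using TensorProduct.induction_on with
        | zero => simp
        | add x y hx hy => simp only [add_mul, add_tmul, map_add, hx, hy]
        | tmul x y => simp [F]
    rw [h1]
    simp only [F, LinearMap.comp_apply, LinearEquiv.coe_coe, Coalgebra.coassoc_apply]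
    rw [← LinearMap.comp_apply (f := LinearMap.lTensor A _) (g := LinearMap.lTensor A _),
      ← LinearMap.lTensor_comp, LinearMap.comp_assoc, HopfAlgebra.mul_antipode_lTensor_comul,
      LinearMap.lTensor_comp, LinearMap.comp_apply, Coalgebra.lTensor_counit_comul]
    simp

/-- right multiplication keeps `M ⊗ A` -/
theorem mul_one_tmul_mem {P : Submodule k A} {z : A ⊗[k] A}
    (hz : z ∈ LinearMap.range (P.subtype.rTensor A)) (c : A) :
    z * ((1 : A) ⊗ₜ c) ∈ LinearMap.range (P.subtype.rTensor A) := by
  obtain ⟨y, rfl⟩ := hz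
  induction y using TensorProduct.induction_on with
  | zero => simp
  | add x y hx hy => rw [map_add, add_mul]; exact add_mem hx hy
  | tmul p a => exact ⟨p ⊗ₜ (a * c), by simp⟩

theorem lTensor_mem {P : Submodule k A} (f : A →ₗ[k] A) {z : A ⊗[k] A}
    (hz : z ∈ LinearMap.range (P.subtype.rTensor A)) :
    f.lTensor A z ∈ LinearMap.range (P.subtype.rTensor A) := by
  obtain ⟨y, rfl⟩ := hz
  exact ⟨f.lTensor P y, by rw [← LinearMap.comp_apply, ← LinearMap.comp_apply,
    LinearMap.rTensor_comp_lTensor, LinearMap.lTensor_comp_rTensor]⟩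

variable (B : Subalgebra k A)
  (hc : ∀ b ∈ B, comul (R := k) b ∈
    LinearMap.range (TensorProduct.map B.val.toLinearMap B.val.toLinearMap))
  (hs : ∀ b ∈ B, HopfAlgebraStruct.antipode (R := k) (A := A) b ∈ B)

/-- `B ⊗ A → A ⊗ A` -/
noncomputable def inclL : B ⊗[k] A →ₐ[k] A ⊗[k] A := Algebra.TensorProduct.map B.val (AlgHom.id k A)

theorem inclL_injective : Function.Injective (inclL B) :=
  Module.Flat.rTensor_preserves_injective_linearMap B.val.toLinearMap Subtype.val_injective

include hc in
theorem comul_mem_range_inclL (b : B) : comul (R := k) (b : A) ∈ (inclL B).range := by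
  obtain ⟨z, hz⟩ := hc b b.2
  refine ⟨B.val.toLinearMap.lTensor B z, ?_⟩
  rw [← hz]
  clear hz
  induction z using TensorProduct.induction_on with
  | zero => simp
  | add x y hx hy => simp only [map_add, hx, hy]
  | tmul x y => simp [inclL]

/-- the coaction of `A` on `B` -/
noncomputable def coactB : B →ₐ[k] B ⊗[k] A :=
  ((AlgEquiv.ofInjective (inclL B) (inclL_injective B)).symm :
      (inclL B).range →ₐ[k] B ⊗[k] A).comp
    (((Bialgebra.comulAlgHom k A).comp B.val).codRestrict (inclL B).range (comul_mem_range_inclL B hc))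

theorem inclL_coactB (b : B) : inclL B (coactB B hc b) = comul (R := k) (b : A) :=
  congrArg Subtype.val ((AlgEquiv.ofInjective (inclL B) (inclL_injective B)).apply_symm_apply _)

/-- the shear on `B ⊗ A` -/
noncomputable def shB : B ⊗[k] A →ₐ[k] B ⊗[k] A :=
  Algebra.TensorProduct.lift (coactB B hc) Algebra.TensorProduct.includeRight fun _ _ => .all _ _

/-- its inverse -/
noncomputable def shBInv : B ⊗[k] A →ₐ[k] B ⊗[k] A :=
  Algebra.TensorProduct.lift
    ((Algebra.TensorProduct.map (AlgHom.id k B) (HopfAlgebra.antipodeAlgHom k A)).comp (coactB B hc))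
    Algebra.TensorProduct.includeRight fun _ _ => .all _ _

theorem inclL_shB (s : B ⊗[k] A) : inclL B (shB B hc s) = shear k A (inclL B s) := by
  induction s using TensorProduct.induction_on with
  | zero => simp
  | add x y hx hy => simp only [map_add, hx, hy]
  | tmul b a =>
    simp only [shB, Algebra.TensorProduct.lift_tmul, map_mul, inclL_coactB,
      Algebra.TensorProduct.includeRight_apply]
    simp [inclL]

theorem inclL_shBInv (s : B ⊗[k] A) : inclL B (shBInv B hc s) = shearInv k A (inclL B s) := by
  induction s using TensorProduct.induction_on with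
  | zero => simp
  | add x y hx hy => simp only [map_add, hx, hy]
  | tmul b a =>
    simp only [shBInv, Algebra.TensorProduct.lift_tmul, map_mul, AlgHom.comp_apply,
      Algebra.TensorProduct.includeRight_apply]
    rw [show inclL B ((b : B) ⊗ₜ[k] a) = (b : A) ⊗ₜ[k] a from rfl, shearInv_tmul, ← inclL_coactB B hc b]
    congr 1
    · generalize coactB B hc b = w
      induction w using TensorProduct.induction_on with
      | zero => simp
      | add x y hx hy => simp only [map_add, hx, hy]
      | tmul x y => simp [inclL]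

theorem shB_shBInv (s : B ⊗[k] A) : shB B hc (shBInv B hc s) = s :=
  inclL_injective B (by rw [inclL_shB, inclL_shBInv, shear_shearInv_apply])

/-- `b ↦ b ⊗ 1` -/
noncomputable abbrev inB : B →+* B ⊗[k] A := Algebra.TensorProduct.includeLeftRingHom

theorem shB_inB (b : B) : shB B hc (inB B b) = coactB B hc b := by
  simp [shB, inB, ← Algebra.TensorProduct.one_def]

include hs in
/-- `B` has no nontrivial stable ideals. -/
theorem eq_bot_or_top_of_stable (I : Ideal B)
    (hI : ∀ b ∈ I, coactB B hc b ∈ I.map (inB B)) : I = ⊥ ∨ I = ⊤ := by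
  classical
  by_cases hε : ∀ b ∈ I, counit (R := k) (b : A) = 0
  · left
    refine (Submodule.eq_bot_iff I).2 fun b hb => Subtype.ext ?_
    let Ψ : B ⊗[k] A →ₐ[k] A := Algebra.TensorProduct.lift
      ((Algebra.ofId k A).comp ((Bialgebra.counitAlgHom k A).comp B.val)) (AlgHom.id k A)
      fun _ _ => .all _ _
    have h0 : I.map (inB B) ≤ RingHom.ker Ψ := by
      refine Ideal.map_le_iff_le_comap.2 fun c hc' => ?_
      show Ψ ((c : B) ⊗ₜ[k] (1 : A)) = 0
      simp [Ψ, hε c hc']
    have h1 : Ψ (coactB B hc b) = (b : A) := by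
      have h := congrArg (TensorProduct.lid k A) (Coalgebra.rTensor_counit_comul (R := k) (b : A))
      rw [← inclL_coactB B hc b, lid_tmul, one_smul] at h
      refine Eq.trans ?_ h
      generalize coactB B hc b = w
      induction w using TensorProduct.induction_on with
      | zero => simp
      | add x y hx hy => simp only [map_add, hx, hy]
      | tmul x y => simp [inclL, Ψ, Algebra.smul_def]
    rw [← h1]
    exact (h0 (hI b hb)).trans rfl
  · right
    push Not at hε
    obtain ⟨b, hb, hne⟩ := hε
    obtain ⟨p, hp⟩ := B.val.toLinearMap.exists_leftInverse_of_injective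
      (LinearMap.ker_eq_bot.2 Subtype.val_injective)
    let SB : B →ₗ[k] B := ((HopfAlgebra.antipodeAlgHom k A).comp B.val).toLinearMap.codRestrict
      (Subalgebra.toSubmodule B) fun x => hs x x.2
    let L : B ⊗[k] A →ₗ[k] B := LinearMap.mul' k B ∘ₗ TensorProduct.map LinearMap.id (SB ∘ₗ p)
    have hL : ∀ s ∈ I.map (inB B), L s ∈ I := by
      suffices H : ∀ s ∈ I.map (inB B), ∀ u, L (u * s) ∈ I from fun s hs' => by
        simpa using H s hs' 1
      intro s hsI
      induction hsI using Submodule.span_induction with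
      | mem y hy =>
        obtain ⟨c, hc', rfl⟩ := hy
        intro u
        induction u using TensorProduct.induction_on with
        | zero => simp
        | add x y hx hy => rw [add_mul, map_add]; exact add_mem hx hy
        | tmul t a => simp [L, inB, I.mul_mem_right _ (I.mul_mem_left t hc')]
      | zero => simp
      | add x y _ _ hx hy => intro u; rw [mul_add, map_add]; exact add_mem (hx u) (hy u)
      | smul t x _ hx => intro u; rw [smul_eq_mul, ← mul_assoc]; exact hx _
    have h1 : L (coactB B hc b) = algebraMap k B (counit (R := k) (b : A)) := by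
      obtain ⟨z, hz⟩ := hc b b.2
      have e : coactB B hc b = B.val.toLinearMap.lTensor B z := inclL_injective B (by
        rw [inclL_coactB, ← hz]
        clear hz
        induction z using TensorProduct.induction_on with
        | zero => simp
        | add x y hx hy => simp only [map_add, hx, hy]
        | tmul x y => simp [inclL])
      have h := HopfAlgebra.mul_antipode_lTensor_comul_apply (R := k) (b : A)
      rw [← hz] at h
      refine Subtype.ext (Eq.trans ?_ h)
      rw [e]
      clear hz e h
      induction z using TensorProduct.induction_on with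
      | zero => simp
      | add x y hx hy => simp only [map_add, Subalgebra.coe_add, hx, hy]
      | tmul x y =>
        have := LinearMap.congr_fun hp y
        simp only [LinearMap.comp_apply, AlgHom.toLinearMap_apply, Subalgebra.coe_val,
          LinearMap.id_apply] at this
        simp [L, SB, this]
        rfl
    have h2 := hL _ (hI b hb)
    rw [h1] at h2
    exact Ideal.eq_top_of_isUnit_mem I h2 ((IsUnit.mk0 _ hne).map (algebraMap k B))

section HopfModule

variable (M : Submodule B A)
  (hM : ∀ m ∈ M, comul (R := k) m ∈ LinearMap.range ((M.restrictScalars k).subtype.rTensor A))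

local notation "S" => B ⊗[k] A
local notation "N" => S ⊗[B] M
local notation "PM" =>
  LinearMap.range (LinearMap.rTensor A (Submodule.subtype (Submodule.restrictScalars k M)))

/-- `S ⊗_B M → A ⊗ A` -/
noncomputable def emb : N →+ A ⊗[k] A :=
  TensorProduct.liftAddHom
    (AddMonoidHom.mk' (fun s => AddMonoidHom.mk' (fun m : M => inclL B s * ((m : A) ⊗ₜ[k] (1 : A)))
        fun m m' => by rw [Submodule.coe_add, add_tmul, mul_add])
      fun s s' => AddMonoidHom.ext fun m => by simp [add_mul])
    fun b s m => by
      simp only [AddMonoidHom.mk'_apply]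
      induction s using TensorProduct.induction_on with
      | zero => simp
      | add x y hx hy => simp only [smul_add, map_add, add_mul, hx, hy]
      | tmul c a => simp [inclL, smul_tmul', Subalgebra.smul_def, mul_assoc, mul_left_comm]

theorem emb_tmul (s : S) (m : M) : emb B M (s ⊗ₜ[B] m) = inclL B s * ((m : A) ⊗ₜ[k] (1 : A)) := rfl

theorem emb_smul (s : S) (x : N) : emb B M (s • x) = inclL B s * emb B M x := by
  induction x using TensorProduct.induction_on with
  | zero => simp
  | add x y hx hy => rw [smul_add, map_add, map_add, mul_add, hx, hy]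
  | tmul t m => rw [smul_tmul', emb_tmul, emb_tmul, smul_eq_mul, map_mul, mul_assoc]

theorem emb_back : ∃ ψ : (M.restrictScalars k) ⊗[k] A →ₗ[k] N, Function.Surjective ψ ∧
    ∀ y, emb B M (ψ y) = (M.restrictScalars k).subtype.rTensor A y := by
  let ψ : (M.restrictScalars k) ⊗[k] A →ₗ[k] N := TensorProduct.lift
    (LinearMap.mk₂ k (fun (m : M.restrictScalars k) (a : A) =>
        ((1 : B) ⊗ₜ[k] a) ⊗ₜ[B] (⟨m.1, m.2⟩ : M))
      (fun m m' a => by rw [← tmul_add]; rfl)
      (fun c m a => by
        have e : (⟨(c • m : M.restrictScalars k).1, (c • m : M.restrictScalars k).2⟩ : M) =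
            algebraMap k B c • (⟨m.1, m.2⟩ : M) :=
          Subtype.ext (Algebra.smul_def c (m : A))
        rw [e, ← smul_tmul, smul_tmul']
        congr 1
        simp [smul_tmul', Algebra.algebraMap_eq_smul_one])
      (fun m a a' => by rw [tmul_add, add_tmul])
      (fun c m a => by rw [tmul_smul, ← smul_tmul']))
  refine ⟨ψ, fun x => ?_, fun y => ?_⟩
  · induction x using TensorProduct.induction_on with
    | zero => exact ⟨0, map_zero _⟩
    | add x y hx hy =>
      obtain ⟨p, hp⟩ := hx
      obtain ⟨q, hq⟩ := hy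
      exact ⟨p + q, by rw [map_add, hp, hq]⟩
    | tmul s m =>
      induction s using TensorProduct.induction_on with
      | zero => exact ⟨0, by simp⟩
      | add x y hx hy =>
        obtain ⟨p, hp⟩ := hx
        obtain ⟨q, hq⟩ := hy
        exact ⟨p + q, by rw [map_add, hp, hq, add_tmul]⟩
      | tmul b a =>
        refine ⟨(⟨((b • m : M) : A), (b • m).2⟩ : M.restrictScalars k) ⊗ₜ a, ?_⟩
        show ((1 : B) ⊗ₜ[k] a) ⊗ₜ[B] (b • m) = _
        rw [← smul_tmul, smul_tmul', smul_eq_mul, mul_one]
  · induction y using TensorProduct.induction_on with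
    | zero => simp
    | add x y hx hy => simp only [map_add, hx, hy]
    | tmul m a =>
      simp [ψ, emb_tmul, inclL]

theorem emb_injective : Function.Injective (emb B M) := by
  obtain ⟨ψ, hψs, hψ⟩ := emb_back B M
  intro x y hxy
  obtain ⟨x, rfl⟩ := hψs x
  obtain ⟨y, rfl⟩ := hψs y
  rw [hψ, hψ] at hxy
  rw [Module.Flat.rTensor_preserves_injective_linearMap _ Subtype.val_injective hxy]

theorem mem_range_emb_iff (z : A ⊗[k] A) : z ∈ Set.range (emb B M) ↔ z ∈ PM := by
  obtain ⟨ψ, hψs, hψ⟩ := emb_back B M
  constructor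
  · rintro ⟨x, rfl⟩
    obtain ⟨y, rfl⟩ := hψs x
    exact ⟨y, (hψ y).symm⟩
  · rintro ⟨y, rfl⟩
    exact ⟨ψ y, hψ y⟩

include hM in
theorem shear_mem {z : A ⊗[k] A} (hz : z ∈ PM) : shear k A z ∈ PM ∧ shearInv k A z ∈ PM := by
  obtain ⟨y, rfl⟩ := hz
  induction y using TensorProduct.induction_on with
  | zero => simp
  | add x y hx hy =>
    rw [map_add, map_add, map_add]
    exact ⟨add_mem hx.1 hy.1, add_mem hx.2 hy.2⟩
  | tmul m a =>
    rw [LinearMap.rTensor_tmul, Submodule.subtype_apply, shear_tmul, shearInv_tmul]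
    exact ⟨mul_one_tmul_mem (hM m m.2) a, mul_one_tmul_mem (lTensor_mem _ (hM m m.2)) a⟩

include hc hM in
theorem exists_shN : ∃ g : N →+ N, Function.Surjective g ∧
    (∀ (s : S) (x : N), g (s • x) = shB B hc s • g x) ∧
    ∀ x, emb B M (g x) = shear k A (emb B M x) := by
  have h : ∀ x, ∃ y, emb B M y = shear k A (emb B M x) := fun x =>
    (mem_range_emb_iff B M _).2 (shear_mem B M hM ((mem_range_emb_iff B M _).1 ⟨x, rfl⟩)).1
  choose g hg using h
  refine ⟨AddMonoidHom.mk' g fun x y => emb_injective B M (by simp only [map_add, hg]), fun y => ?_,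
    fun s x => emb_injective B M (by
      simp only [AddMonoidHom.mk'_apply, hg, emb_smul, map_mul, inclL_shB]), hg⟩
  obtain ⟨x, hx⟩ := (mem_range_emb_iff B M _).2
    (shear_mem B M hM ((mem_range_emb_iff B M _).1 ⟨y, rfl⟩)).2
  exact ⟨x, emb_injective B M (by rw [AddMonoidHom.mk'_apply, hg, hx, shear_shearInv_apply])⟩

variable [Module.Finite B M]

include hc hs hM in
theorem fitting_eq_bot_or_top (r : ℕ) : Fitt.ideal B M r = ⊥ ∨ Fitt.ideal B M r = ⊤ := by
  refine eq_bot_or_top_of_stable B hc hs _ fun b hb => ?_
  have hbase : Fitt.ideal S N r = (Fitt.ideal B M r).map (inB B) := Groth.Agent.S6890.result M r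
  obtain ⟨g, hgs, hg, -⟩ := exists_shN B hc M hM
  have h : ∀ s ∈ Fitt.ideal S N r, shB B hc s ∈ Fitt.ideal S N r := by
    intro s hs'
    induction hs' using Submodule.span_induction with
    | mem d hd =>
      obtain ⟨n, x, a, hx, ha, rfl⟩ := hd
      refine Ideal.subset_span ⟨n, g ∘ x, a.map (shB B hc), ?_, fun i hi => ?_, ?_⟩
      · refine top_le_iff.1 fun y hyt => ?_
        clear hyt
        obtain ⟨y, rfl⟩ := hgs y
        have hy : y ∈ Submodule.span S (Set.range x) := hx ▸ Submodule.mem_top
        induction hy using Submodule.span_induction with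
        | mem z hz =>
          obtain ⟨i, rfl⟩ := hz
          exact Submodule.subset_span ⟨i, rfl⟩
        | zero => simp
        | add p q _ _ hp hq => rw [map_add]; exact add_mem hp hq
        | smul t p _ hp => rw [hg]; exact Submodule.smul_mem _ _ hp
      · simp only [Matrix.map_apply, Function.comp_apply, ← hg, ← map_sum, ha i hi, map_zero]
      · exact (shB B hc).toRingHom.map_det a
    | zero => simp
    | add x y _ _ hx hy => rw [map_add]; exact add_mem hx hy
    | smul c x _ hx => rw [smul_eq_mul, map_mul]; exact Ideal.mul_mem_left _ _ hx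
  have h2 := h _ (hbase ▸ Ideal.mem_map_of_mem (inB B) hb)
  rwa [shB_inB, hbase] at h2

include hc hs hM in
theorem projective_of_hopfModule : Module.Projective B M := by
  classical
  obtain ⟨n, x, hx⟩ := Module.Finite.exists_fin (R := B) (M := M)
  have hex : ∃ r, Fitt.ideal B M r = ⊤ := ⟨n, by
    rw [Groth.Agent.FittIdeal.ideal_eq x hx, Groth.Agent.FittIdeal.dIdeal_eq_top x le_rfl]⟩
  exact projective_of_fitting x hx _ (Nat.find_spec hex) fun s hlt =>
    (fitting_eq_bot_or_top B hc hs M hM s).resolve_right (Nat.find_min hex hlt)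

include hc hs hM in
theorem exists_functional_one (h1 : (1 : A) ∈ M) : ∃ f : M →ₗ[B] B, f ⟨1, h1⟩ = 1 := by
  classical
  have := projective_of_hopfModule B hc hs M hM
  obtain ⟨n, x, hx⟩ := Module.Finite.exists_fin (R := B) (M := M)
  let π : (Fin n → B) →ₗ[B] M := Fintype.linearCombination B x
  have hπ : Function.Surjective π := by
    rw [← LinearMap.range_eq_top, Fintype.range_linearCombination, hx]
  obtain ⟨i, hi⟩ := Module.projective_lifting_property π LinearMap.id hπ
  let f : Fin n → (M →ₗ[B] B) := fun c => LinearMap.proj c ∘ₗ i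
  let T : Ideal B := Ideal.span (Set.range fun c => f c ⟨1, h1⟩)
  have hone : (⟨1, h1⟩ : M) = ∑ c, f c ⟨1, h1⟩ • x c := by
    conv_lhs => rw [show (⟨1, h1⟩ : M) = π (i ⟨1, h1⟩) from (LinearMap.congr_fun hi _).symm]
    simp [π, f, Fintype.linearCombination_apply]
  have hstable : ∀ b ∈ T, coactB B hc b ∈ T.map (inB B) := by
    -- `ι T` lies in the image of `ι T` under the inverse shear
    have hy : ∀ c, ∃ y : N, emb B M y = shearInv k A ((x c : A) ⊗ₜ[k] (1 : A)) := fun c =>
      (mem_range_emb_iff B M _).2 (shear_mem B M hM ⟨(⟨x c, (x c).2⟩ : M.restrictScalars k) ⊗ₜ 1, rfl⟩).2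
    choose y hy using hy
    have e : (1 : S) ⊗ₜ[B] (⟨1, h1⟩ : M) = ∑ c, shBInv B hc (inB B (f c ⟨1, h1⟩)) • y c := by
      refine emb_injective B M ?_
      rw [map_sum, emb_tmul, map_one, one_mul]
      simp only [emb_smul, hy, inclL_shBInv, ← map_mul]
      rw [← map_sum]
      have e2 : ∑ c, inclL B (inB B (f c ⟨1, h1⟩)) * ((x c : A) ⊗ₜ[k] (1 : A)) =
          (1 : A) ⊗ₜ[k] (1 : A) := by
        calc ∑ c, inclL B (inB B (f c ⟨1, h1⟩)) * ((x c : A) ⊗ₜ[k] (1 : A))
            = ((∑ c, f c ⟨1, h1⟩ • x c : M) : A) ⊗ₜ[k] (1 : A) := by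
              simp [inclL, inB, sum_tmul, Subalgebra.smul_def]
          _ = _ := by rw [← hone]
      rw [e2]
      simp [← Algebra.TensorProduct.one_def]
    intro b hb
    induction hb using Submodule.span_induction with
    | zero => simp
    | add p q _ _ hp hq => rw [map_add]; exact add_mem hp hq
    | smul t p _ hp => rw [smul_eq_mul, map_mul]; exact Ideal.mul_mem_left _ _ hp
    | mem p hp =>
      obtain ⟨c, rfl⟩ := hp
      let F : N →ₗ[S] S := (AlgebraTensorModule.rid B S S).toLinearMap ∘ₗ (f c).baseChange S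
      have h := congrArg F e
      have hF : F ((1 : S) ⊗ₜ[B] (⟨1, h1⟩ : M)) = inB B (f c ⟨1, h1⟩) := by
        simp [F, inB, ← Algebra.algebraMap_eq_smul_one, Algebra.TensorProduct.algebraMap_apply]
      rw [hF, map_sum] at h
      rw [← shB_inB B hc, h, map_sum]
      refine sum_mem fun d _ => ?_
      rw [map_smul, smul_eq_mul, map_mul, shB_shBInv]
      exact Ideal.mul_mem_right _ _ (Ideal.mem_map_of_mem _ (Ideal.subset_span ⟨d, rfl⟩))
  rcases eq_bot_or_top_of_stable B hc hs T hstable with h | h
  · exfalso
    haveI : Nontrivial A := (Bialgebra.counitAlgHom k A).toRingHom.domain_nontrivial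
    have h0 : ∀ c, f c ⟨1, h1⟩ = 0 := fun c => by
      have : f c ⟨1, h1⟩ ∈ T := Ideal.subset_span ⟨c, rfl⟩
      rwa [h, Submodule.mem_bot] at this
    rw [Finset.sum_eq_zero fun c _ => by rw [h0 c, zero_smul]] at hone
    exact one_ne_zero (congrArg Subtype.val hone)
  · obtain ⟨c, hc'⟩ := (Submodule.mem_span_range_iff_exists_fun B).1
      (show (1 : B) ∈ Submodule.span B (Set.range fun c => f c ⟨1, h1⟩) from
        (show (1 : B) ∈ T by rw [h]; trivial))
    exact ⟨∑ d, c d • f d, by simpa using hc'⟩

end HopfModule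

include hc in
/-- finitely generated Hopf submodules exhaust `A` -/
theorem exists_hopfModule (s : Set A) (hsf : s.Finite) : ∃ M : Submodule B A, s ⊆ M ∧ (1 : A) ∈ M ∧
    Module.Finite B M ∧
    ∀ m ∈ M, comul (R := k) m ∈ LinearMap.range ((M.restrictScalars k).subtype.rTensor A) := by
  obtain ⟨V, hV, hsV⟩ := exists_finite_subcomod_of_finite (k := k) (C := A) (insert 1 s) (hsf.insert 1)
  obtain ⟨t, ht⟩ := Module.Finite.iff_fg.1 hV
  let M : Submodule B A := Submodule.span B (V : Set A)
  have hVM : ∀ a ∈ V, a ∈ M := fun a ha => Submodule.subset_span ha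
  refine ⟨M, fun a ha => hVM a (hsV (Set.mem_insert_of_mem 1 ha)), hVM 1 (hsV (Set.mem_insert 1 s)),
    Module.Finite.iff_fg.2 ⟨t, le_antisymm (Submodule.span_le.2 fun a ha => hVM a ?_)
      (Submodule.span_le.2 fun a ha => ?_)⟩, fun m hm => ?_⟩
  · have : a ∈ Submodule.span k (t : Set A) := Submodule.subset_span ha
    rwa [ht] at this
  · have : a ∈ Submodule.span k (t : Set A) := by rw [ht]; exact ha
    exact Submodule.span_subset_span k B (t : Set A) this
  · induction hm using Submodule.span_induction with
    | mem a ha =>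
      refine (mem_range_rTensor_iff _ _).2 fun φ => hVM _ ?_
      exact V.smul_mem (WithConv.toConv φ) ha
    | zero => simp
    | add x y _ _ hx hy => rw [map_add]; exact add_mem hx hy
    | smul b x hxM hx =>
      rw [Subalgebra.smul_def, smul_eq_mul, Bialgebra.comul_mul, ← inclL_coactB B hc b]
      obtain ⟨y, hy⟩ := hx
      rw [← hy]
      generalize coactB B hc b = w
      clear hy
      induction w using TensorProduct.induction_on with
      | zero => simp
      | add p q hp hq => rw [map_add, add_mul]; exact add_mem hp hq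
      | tmul c a =>
        induction y using TensorProduct.induction_on with
        | zero => simp
        | add p q hp hq => rw [map_add, mul_add]; exact add_mem hp hq
        | tmul m a' =>
          exact ⟨(⟨(c : A) * m, M.smul_mem c m.2⟩ : M.restrictScalars k) ⊗ₜ (a * a'), by simp [inclL]⟩

include hc hs in
/-- **Takeuchi's theorem**: faithful flatness over Hopf subalgebras. -/
theorem faithfullyFlat : Module.FaithfullyFlat B A := by
  have hflat : Module.Flat B A := by
    rw [Module.Flat.iff_rTensor_injective']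
    intro I
    rw [injective_iff_map_eq_zero]
    intro z hz
    have hsupp : ∃ s : Set A, s.Finite ∧ ∀ M : Submodule B A, s ⊆ M →
        z ∈ LinearMap.range (M.subtype.lTensor I) := by
      clear hz
      induction z using TensorProduct.induction_on with
      | zero => exact ⟨∅, Set.finite_empty, fun M _ => zero_mem _⟩
      | add p q hp hq =>
        obtain ⟨s, hs1, hs2⟩ := hp
        obtain ⟨t, ht1, ht2⟩ := hq
        exact ⟨s ∪ t, hs1.union ht1, fun M hM => add_mem (hs2 M fun a ha => hM (Or.inl ha))
          (ht2 M fun a ha => hM (Or.inr ha))⟩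
      | tmul i a =>
        exact ⟨{a}, Set.finite_singleton a, fun M hM => ⟨i ⊗ₜ ⟨a, hM rfl⟩, rfl⟩⟩
    obtain ⟨s, hsf, hs'⟩ := hsupp
    obtain ⟨M, hsM, -, hfin, hM⟩ := exists_hopfModule B hc s hsf
    obtain ⟨w, rfl⟩ := hs' M hsM
    have := projective_of_hopfModule B hc hs M hM
    rw [← LinearMap.comp_apply, LinearMap.rTensor_comp_lTensor, ← LinearMap.lTensor_comp_rTensor,
      LinearMap.comp_apply] at hz
    have h1 : I.subtype.rTensor M w = 0 :=
      Module.Flat.lTensor_preserves_injective_linearMap (M := B) M.subtype Subtype.val_injective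
        (hz.trans (map_zero _).symm)
    have h2 : w = 0 := Module.Flat.rTensor_preserves_injective_linearMap (M := M) I.subtype
      Subtype.val_injective (h1.trans (map_zero _).symm)
    rw [h2, map_zero]
  refine @Module.FaithfullyFlat.mk B A _ _ _ hflat fun q hq htop => ?_
  have h1 : (1 : A) ∈ q • (⊤ : Submodule B A) := by rw [htop]; trivial
  have hsupp : ∃ s : Set A, s.Finite ∧ ∀ M : Submodule B A, s ⊆ M → (1 : A) ∈ q • M := by
    generalize (1 : A) = o at h1 ⊢
    induction h1 using Submodule.smul_induction_on' with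
    | smul b hb a _ =>
      exact ⟨{a}, Set.finite_singleton a, fun M hM => Submodule.smul_mem_smul hb (hM rfl)⟩
    | add x _ y _ hx hy =>
      obtain ⟨s, hs1, hs2⟩ := hx
      obtain ⟨t, ht1, ht2⟩ := hy
      exact ⟨s ∪ t, hs1.union ht1, fun M hM => add_mem (hs2 M fun a ha => hM (Or.inl ha))
        (ht2 M fun a ha => hM (Or.inr ha))⟩
  obtain ⟨s, hsf, hs'⟩ := hsupp
  obtain ⟨M, hsM, h1M, hfin, hM⟩ := exists_hopfModule B hc s hsf
  obtain ⟨f, hf⟩ := exists_functional_one B hc hs M hM h1M
  have hkey : ∀ a : A, a ∈ q • M → ∀ ha : a ∈ M, f ⟨a, ha⟩ ∈ q := by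
    intro a ha
    induction ha using Submodule.smul_induction_on' with
    | smul b hb m hm =>
      intro ha
      rw [show (⟨b • m, ha⟩ : M) = b • (⟨m, hm⟩ : M) from rfl, map_smul]
      exact q.mul_mem_right _ hb
    | add x hx y hy hx' hy' =>
      intro ha
      have hxM : x ∈ M := Submodule.smul_le_right hx
      have hyM : y ∈ M := Submodule.smul_le_right hy
      rw [show (⟨x + y, ha⟩ : M) = ⟨x, hxM⟩ + ⟨y, hyM⟩ from rfl, map_add]
      exact add_mem (hx' hxM) (hy' hyM)
  exact hq.ne_top ((Ideal.eq_top_iff_one q).2 (hf ▸ hkey 1 (hs' M hsM) h1M))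

end Groth.Agent.HopfFF
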